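import Groth.Agent.SymSqLib.Apps
import Groth.Agent.CohCmpLib.FamilyPic
import Groth.Agent.CohCmpLib.RankOne

/-! The pullback to the square is injective on line bundles; the class of twice a Weierstrass point. -/

set_option autoImplicit false
set_option linter.style.haveILetI false
set_option linter.unusedSectionVars false
set_option maxHeartbeats 1000000

universe u

open CategoryTheory CategoryTheory.Limits AlgebraicGeometry TopologicalSpace Opposite
open KFlatLib (pb puSec)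
open HypSqLib (sq)
open HilbPolyLib (congrLeft congrRight assocIso swapIso unitLeft)
open SurfNumLib IntMultLib PicH1Lib

noncomputable section

namespace SymSqLib

section Comap

variable {S T : Scheme.{u}} (f : T ⟶ S) (K : S.IdealSheafData)

theorem epi_toComap : Epi (toComap f K) := by
    refine QCohLib.epi_of_surjective_on_affines _ fun V s p hp => ?_
    obtain ⟨W, hW, hpW, -⟩ := exists_isAffineOpen_mem_and_subset (show f p ∈ (⊤ : S.Opens) from trivial)
    obtain ⟨U, hU, hpU, hUW⟩ := exists_isAffineOpen_mem_and_subset (show p ∈ V ⊓ f ⁻¹ᵁ W from ⟨hp, hpW⟩)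
    have hUV : U ≤ V := fun x hx => (hUW hx).1
    refine ⟨U, hUV, hpU, ?_⟩
    let J := K.comap f
    let s' := AmpleLib.res (ClSub.idealMod J) hUV s
    let b : Γ(T, U) := idVal J s'
    have hb : b ∈ J.ideal ⟨U, hU⟩ := by
      rw [← congrArg (fun I : T.IdealSheafData => I.ideal ⟨U, hU⟩) J.ker_subschemeι, Scheme.Hom.ker_apply, RingHom.mem_ker]
      exact app_idVal J s'
    have hle : U ≤ f ⁻¹ᵁ W := fun x hx => (hUW hx).2
    rw [Groth.Agent.S4666.ideal_comap_eq K f ⟨W, hW⟩ ⟨U, hU⟩ hle] at hb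
    suffices h : ∃ t, (pullIdeal f K).app U t = b by
      obtain ⟨t, ht⟩ := h
      refine ⟨t, idVal_injective J U ?_⟩
      rw [idVal, ← ConcreteCategory.comp_apply, ← Scheme.Modules.Hom.comp_app, toComap_ι]
      exact ht
    refine Submodule.span_induction (p := fun y _ => ∃ t, (pullIdeal f K).app U t = y) ?_ ?_ ?_ ?_ hb
    · intro y hy
      obtain ⟨a, ha, rfl⟩ := hy
      obtain ⟨m, rfl⟩ := exists_idVal K (V := W) (b := a) (by
        rw [SetLike.mem_coe, ← congrArg (fun I : S.IdealSheafData => I.ideal ⟨W, hW⟩) K.ker_subschemeι,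
          Scheme.Hom.ker_apply, RingHom.mem_ker] at ha
        exact ha)
      refine ⟨AmpleLib.res _ hle (puSec f m), ?_⟩
      exact (QCohLib.app_map (pullIdeal f K) (homOfLE hle) (puSec f m)).trans
        (congrArg (T.presheaf.map (homOfLE hle).op) (pullIdeal_puSec f K m))
    · exact ⟨0, map_zero _⟩
    · intro y z _ _ hy hz
      obtain ⟨t, rfl⟩ := hy
      obtain ⟨t', rfl⟩ := hz
      exact ⟨t + t', map_add _ _ _⟩
    · intro r y _ hy
      obtain ⟨t, rfl⟩ := hy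
      exact ⟨(r : Γ(T, U)) • t, QCohLib.app_smul _ _ _ _⟩

theorem nonempty_pb_ideal (hK : PicF.IsInvertible (ClSub.idealMod K))
    (hJ : PicF.IsInvertible (ClSub.idealMod (K.comap f))) :
    Nonempty (pb f (ClSub.idealMod K) ≅ ClSub.idealMod (K.comap f)) := by
  haveI := epi_toComap f K
  haveI := CohCmpLib.isIso_of_epi_rank_one (CurvLib.locFree_of_isInvertible (AmpleDevLib.isInvertible_pb f hK))
    (CurvLib.locFree_of_isInvertible hJ) (toComap f K)
  exact ⟨asIso (toComap f K)⟩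

end Comap

attribute [local instance] HypSqLib.overSq

variable {k : Type u} [Field k] [IsAlgClosed k] {C : Scheme.{u}} [C.Over (Spec (CommRingCat.of k))]
  [IsProper (C ↘ Spec (CommRingCat.of k))] [Smooth (C ↘ Spec (CommRingCat.of k))] [ConnectedSpace C]

section Injective

variable {Sq : Scheme.{u}} [Sq.Over (Spec (CommRingCat.of k))] {π : sq k C ⟶ Sq}
  (hS : IsSym π (Sq ↘ Spec (CommRingCat.of k))) (h2 : (2 : k) ≠ 0) (hdim : topologicalKrullDim C = 1)
  {M : Sq.Modules} (hM : PicF.IsInvertible M)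

include hS h2 hdim hM in
theorem exists_section (e : pb π M ≅ Coh.structureModule (sq k C)) :
    ∃ s : Coh.structureModule Sq ⟶ M, s ≠ 0 := by
  haveI := hS.proper
  have hO := CurvLib.isInvertible_structureModule (X := C)
  let u : HypSqLib.box (k := k) (Coh.structureModule C) (Coh.structureModule C) ≅ Coh.structureModule (sq k C) :=
    (congrLeft (KFlatLib.pullUnitIso _) _ ≪≫ congrRight _ (KFlatLib.pullUnitIso _)) ≪≫ unitLeft _
  have h := two_mul_h0 hS h2 hdim (e ≪≫ u.symm) hO hM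
  rw [HypSqLib.hh0_structure hdim] at h
  haveI := CurvLib.isNoetherian k (X := Sq)
  haveI := CurvLib.finite_HH (k := k) (CurvLib.isCoh_of_isInvertible hM) 0
  haveI : Nontrivial (Coh.HH Sq M 0) := Module.nontrivial_of_finrank_pos (R := k) (by omega)
  have : Nontrivial Γ(M, ⊤) := by
    letI := CurvLib.secModule (k := k) M
    exact (CurvLib.hhZeroEquiv (k := k) M).toEquiv.nontrivial_congr.1 inferInstance
  obtain ⟨x, hx⟩ := exists_ne (0 : Γ(M, ⊤))
  refine ⟨(KFlatLib.unitSecEquiv _).symm x, fun h0 => hx ?_⟩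
  rw [← (KFlatLib.unitSecEquiv M).apply_symm_apply x, h0]
  rfl

include hS h2 hdim hM in
/-- A line bundle trivial on the square is trivial. -/
theorem pic_injective (e : pb π M ≅ Coh.structureModule (sq k C)) : Nonempty (M ≅ Coh.structureModule Sq) := by
  haveI := hS.proper
  haveI := integral hS hdim
  obtain ⟨d⟩ := MiscFlat6.nonempty_dualIso hM
  have hD := MiscFlat6.dual_isInvertible hM
  let e' : pb π (MiscFlat6.dual M) ≅ Coh.structureModule (sq k C) :=
    (unitLeft _).symm ≪≫ congrLeft e.symm _ ≪≫ (PicPnLib.pullTens π _ _).symm ≪≫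
      (Scheme.Modules.pullback π).mapIso d ≪≫ KFlatLib.pullUnitIso π
  obtain ⟨s, hs⟩ := exists_section hS h2 hdim hM e
  obtain ⟨t, ht⟩ := exists_section hS h2 hdim hD e'
  exact CohCmpLib.nonempty_iso_of_inverse_pair
    (isField_of_universallyClosed k (Sq ↘ Spec (CommRingCat.of k))) hM d s hs t ht

include hS h2 hdim hM in
theorem iso_of_pb_iso {M' : Sq.Modules} (hM' : PicF.IsInvertible M') (e : pb π M ≅ pb π M') :
    Nonempty (M ≅ M') := by
  obtain ⟨d⟩ := MiscFlat6.nonempty_dualIso hM'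
  have hD := MiscFlat6.dual_isInvertible hM'
  obtain ⟨a⟩ := pic_injective hS h2 hdim (HilbPolyLib.isInvertible_tensor hM hD)
    (PicPnLib.pullTens π _ _ ≪≫ congrLeft e _ ≪≫ (PicPnLib.pullTens π _ _).symm ≪≫
      (Scheme.Modules.pullback π).mapIso d ≪≫ KFlatLib.pullUnitIso π)
  exact ⟨inverseUnique a (swapIso _ _ ≪≫ d)⟩

end Injective

section Weierstrass

variable (hdim : topologicalKrullDim C = 1)
  {g : ℕ} (hg : 2 ≤ g) (hgen : Curv2.genus k C = g) (κ : C ⟶ CohB1.ProjSpace 1 k)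
  (hκ : κ ≫ CohB1.ProjSpace.toSpec 1 k = C ↘ Spec (CommRingCat.of k)) [IsFinite κ] [Flat κ]
  (hκ2 : ∀ y : ↥(CohB1.ProjSpace 1 k), κ.finrank y = 2)
  (σ : C ⟶ C) (hσp : σ ≫ (C ↘ Spec (CommRingCat.of k)) = C ↘ Spec (CommRingCat.of k))
  (hσ : σ ≫ κ = κ) (hσ1 : σ ≠ 𝟙 C) (h2 : (2 : k) ≠ 0)
  (x : Spec (CommRingCat.of k) ⟶ C) (hx : x ≫ (C ↘ Spec (CommRingCat.of k)) = 𝟙 (Spec (CommRingCat.of k)))

include hdim hx in
/-- A graph through `(x, x)` restricts to the point on the horizontal fibre. -/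
theorem hor_pb_ideal (τ : C ⟶ C) [IsIso τ] (hτp : τ ≫ (C ↘ Spec (CommRingCat.of k)) = C ↘ Spec (CommRingCat.of k))
    (hτ : x ≫ τ = x) :
    Nonempty (pb (HypSqLib.hor x hx) (ClSub.idealMod (HypSqLib.gr τ hτp).ker) ≅ ClSub.idealMod x.ker) := by
  haveI := HypSqLib.integral k C
  let h := HypSqLib.hor x hx
  let q := pullback.snd (C ↘ Spec (CommRingCat.of k)) (C ↘ Spec (CommRingCat.of k))
  have hsq : IsPullback h (C ↘ Spec (CommRingCat.of k)) q x := by
    refine IsPullback.of_right ?_ (HypSqLib.gr_snd _ _) (IsPullback.of_hasPullback _ _)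
    rw [HypSqLib.gr_fst, hx]
    exact IsPullback.of_horiz_isIso ⟨by simp⟩
  haveI := HypSqLib.isClosedImmersion_gr τ hτp
  haveI : IsClosedImmersion h := HypSqLib.isClosedImmersion_gr _ _
  have sq1 : IsPullback x x (HypSqLib.gr τ hτp) h := by
    refine IsPullback.of_bot ?_ ?_ hsq
    · rw [HypSqLib.gr_snd, hx]
      exact IsPullback.of_vert_isIso ⟨by rw [Category.id_comp, hτ]⟩
    · apply pullback.hom_ext
      · simp only [h, HypSqLib.hor, Category.assoc, HypSqLib.gr_fst]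
      · simp only [h, HypSqLib.hor, Category.assoc, HypSqLib.gr_snd]
        rw [hτ, ← Category.assoc, hx, Category.id_comp]
  have hker : (HypSqLib.gr τ hτp).ker.comap h = x.ker := by
    rw [← Scheme.IdealSheafData.ker_fst_of_isClosedImmersion (HypSqLib.gr τ hτp) h,
      ← sq1.flip.isoPullback_inv_fst, Scheme.Hom.ker_comp_of_isIso]
  obtain ⟨e⟩ := nonempty_pb_ideal h _ (HypSqLib.ideal_inv τ hτp hdim)
    (hker ▸ (HypSqLib.deg_point hdim x hx).1)
  exact ⟨e ≪≫ eqToIso (by rw [hker])⟩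

include hdim hg hgen hκ hκ2 hσp hσ hσ1 h2 hx in
/-- Twice a Weierstrass point is the pencil. -/
theorem sq_point_iso (hxW : x ≫ σ = x) {A : C.Modules} (hAinv : ClSub.IsInverseOf A (ClSub.idealMod x.ker)) :
    Nonempty (CohB1.tensorMod A A ≅ HypSqLib.Lκ κ) := by
  haveI := HypSqLib.integral k C
  have hi := HypSqLib.invol_sq hdim hg hgen κ hκ hκ2 h2 hσ hσ1
  haveI : IsIso σ := ⟨σ, hi, hi⟩
  obtain ⟨a⟩ := hAinv
  have hIΔ := HypSqLib.ideal_inv (k := k) (𝟙 C) HypSqLib.id_over hdim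
  have hIΓ := HypSqLib.ideal_inv σ hσp hdim
  obtain ⟨dΔ⟩ := MiscFlat6.nonempty_dualIso hIΔ
  obtain ⟨dΓ⟩ := MiscFlat6.nonempty_dualIso hIΓ
  obtain ⟨eB⟩ := HypSqLib.diag_add_graph hdim hg hgen κ hκ hκ2 σ hσp h2 hσ hσ1 (N := MiscFlat6.dual _)
    ⟨swapIso _ _ ≪≫ dΓ⟩ (ND := MiscFlat6.dual _) ⟨swapIso _ _ ≪≫ dΔ⟩
  obtain ⟨i1⟩ := hor_pb_ideal hdim x hx (𝟙 C) HypSqLib.id_over (Category.comp_id x)
  obtain ⟨i2⟩ := hor_pb_ideal hdim x hx σ hσp hxW
  obtain ⟨hL, -, -⟩ := HypSqLib.pencil (k := k) hdim κ hκ hκ2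
  obtain ⟨t⟩ := SurfNumLib.trivial_spec_field (AmpleDevLib.isInvertible_pb x hL)
  let h := HypSqLib.hor x hx
  let b : pb h (HypSqLib.B1 κ) ≅ HypSqLib.Lκ κ :=
    HypSqLib.pbBox ((C ↘ Spec (CommRingCat.of k)) ≫ x) (HypSqLib.const_over x hx) (HypSqLib.Lκ κ) (HypSqLib.Lκ κ) ≪≫
      congrRight _ (((Scheme.Modules.pullbackComp (C ↘ Spec (CommRingCat.of k)) x).app _).symm ≪≫
        (Scheme.Modules.pullback (C ↘ Spec (CommRingCat.of k))).mapIso t ≪≫ KFlatLib.pullUnitIso _) ≪≫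
      swapIso _ _ ≪≫ unitLeft _
  let inv : ∀ {I : (sq k C).Modules} (d : CohB1.tensorMod I (MiscFlat6.dual I) ≅ Coh.structureModule (sq k C))
      (i : pb h I ≅ ClSub.idealMod x.ker), A ≅ pb h (MiscFlat6.dual I) := fun {I} d i =>
    inverseUnique (Q := ClSub.idealMod x.ker) a (congrLeft i.symm _ ≪≫ (PicPnLib.pullTens h _ _).symm ≪≫
      (Scheme.Modules.pullback h).mapIso d ≪≫ KFlatLib.pullUnitIso h)
  exact ⟨congrLeft (inv dΔ i1) _ ≪≫ congrRight _ (inv dΓ i2) ≪≫ (PicPnLib.pullTens h _ _).symm ≪≫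
    (Scheme.Modules.pullback h).mapIso eB ≪≫ b⟩

end Weierstrass

end SymSqLib
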