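import Groth.Agent.SymSqLib.Euler
import Groth.Agent.CohCmpLib.UnitFibre

/-! Symmetric effective Cartier divisors descend to the symmetric square. -/

set_option autoImplicit false
set_option linter.style.haveILetI false
set_option linter.unusedSectionVars false

universe u

open CategoryTheory CategoryTheory.Limits AlgebraicGeometry TopologicalSpace Opposite
open KFlatLib (pb puSec)
open HypSqLib (sq)
open AmpleLib (GenOn GenAt res)

noncomputable section

namespace SymSqLib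

/-- An ideal is principal if it is so locally with a global generator. -/
theorem ideal_eq_span_of_cover {X : Scheme.{u}} (I : X.IdealSheafData) (T : X.affineOpens) {h : Γ(X, T.1)}
    (hh : h ∈ I.ideal T) (hcov : ∀ z ∈ T.1, ∃ (W : X.affineOpens) (e : W.1 ≤ T.1), z ∈ W.1 ∧
      I.ideal W ≤ Ideal.span {(X.presheaf.map (homOfLE e).op).hom h}) :
    I.ideal T = Ideal.span {h} := by
  refine le_antisymm (fun c hc => T.2.mem_ideal_iff.2 fun z hz => ?_) ((Ideal.span_singleton_le_iff_mem _).2 hh)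
  obtain ⟨W, e, hzW, hW⟩ := hcov z hz
  have := hW (I.ideal_le_comap_ideal (U := W) (V := T) e hc)
  obtain ⟨d, hd⟩ := Ideal.mem_span_singleton'.1 this
  rw [Ideal.map_span, Set.image_singleton, Ideal.mem_span_singleton']
  refine ⟨(X.presheaf.germ W.1 z hzW).hom d, ?_⟩
  have := congrArg (X.presheaf.germ W.1 z hzW).hom hd
  rw [map_mul] at this
  refine Eq.trans ?_ (this.trans (TopCat.Presheaf.germ_res_apply _ (homOfLE e) z hzW c))
  congr 1
  exact (TopCat.Presheaf.germ_res_apply _ (homOfLE e) z hzW h).symm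

/-- A morphism to the structure module matching generators identifies a module with an ideal. -/
theorem exists_iso_idealMod {X : Scheme.{u}} [IsIntegral X] {F : X.Modules} (I : X.IdealSheafData)
    (hI : BlowUp.IsEffCartierIdeal I) (θ : F ⟶ Coh.structureModule X) {ι : Type*} (U : ι → X.affineOpens)
    (hcov : ∀ x : X, ∃ i, x ∈ (U i).1) (e : ∀ i, Γ(F, (U i).1)) (he : ∀ i, GenOn F (e i))
    (hIU : ∀ i, I.ideal (U i) = Ideal.span {(show Γ(X, (U i).1) from θ.app (U i).1 (e i))}) :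
    ∃ v : F ≅ ClSub.idealMod I, v.hom ≫ ClSub.idealModι I = θ := by
  have h0 : θ ≫ ClSub.toSubscheme I = 0 := by
    refine AmpleThLib.hom_ext_gens (fun i => (U i).1) e hcov he fun i => ?_
    show (ClSub.toSubscheme I).app (U i).1 (θ.app (U i).1 (e i)) = 0
    exact (IntMultLib.toSubscheme_app_eq_zero_iff I (U i) _).2 (hIU i ▸ Ideal.mem_span_singleton_self _)
  let v : F ⟶ ClSub.idealMod I := kernel.lift _ θ h0
  have hι : ∀ (V : X.Opens) (t : Γ(F, V)), (ClSub.idealModι I).app V (v.app V t) = θ.app V t :=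
    fun V t => ConcreteCategory.congr_hom (congrArg (fun φ : F ⟶ _ => φ.app V) (kernel.lift_ι _ θ h0)) t
  haveI : Mono (ClSub.idealModι I) := inferInstanceAs (Mono (kernel.ι _))
  haveI : IsIso v := by
    refine TwistLib.isIso_of_gen v fun x => ?_
    obtain ⟨i, hi⟩ := hcov x
    refine ⟨_, hi, e i, (he i).genAt hi, ?_⟩
    obtain ⟨W, g, hxW, hg⟩ := TwistLib.exists_genOn (IntMultLib.isInvertible_idealMod I hI) x
    obtain ⟨W', hW'a, hxW', hW'le⟩ := exists_isAffineOpen_mem_and_subset (U := W ⊓ (U i).1) (x := x) ⟨hxW, hi⟩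
    let τ := v.app _ (e i)
    have hWU : W' ≤ (U i).1 := fun z hz => (hW'le hz).2
    have hWW : W' ≤ W := fun z hz => (hW'le hz).1
    refine (AmpleLib.genAt_res hWU τ hxW').1 ?_
    obtain ⟨c, hc⟩ := (hg W' hWW).2 (res _ hWU τ)
    dsimp only at hc
    rw [← hc, AmpleLib.genAt_smul_iff _ _ hxW' ((hg.res hWW).genAt hxW')]
    let a' : Γ(X, W') := (X.presheaf.map (homOfLE hWU).op).hom (show Γ(X, (U i).1) from θ.app (U i).1 (e i))
    have ea : (show Γ(X, W') from (ClSub.idealModι I).app W' (res _ hWU τ)) = a' := by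
      refine (QCohLib.app_map (ClSub.idealModι I) (homOfLE hWU) τ).trans ?_
      exact congrArg _ (hι _ _)
    let g' : Γ(X, W') := (ClSub.idealModι I).app W' (res _ hWW g)
    have hg' : g' ∈ I.ideal ⟨W', hW'a⟩ := (IntMultLib.toSubscheme_app_eq_zero_iff I ⟨W', hW'a⟩ _).1
      (ConcreteCategory.congr_hom (congrArg (fun φ : ClSub.idealMod I ⟶ ClSub.quotMod I => φ.app W')
        (kernel.condition (ClSub.toSubscheme I))) _)
    rw [← I.map_ideal (U := ⟨W', hW'a⟩) (V := U i) hWU, hIU, Ideal.map_span, Set.image_singleton] at hg'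
    obtain ⟨d, hd⟩ := Ideal.mem_span_singleton'.1 hg'
    rw [← hc, IntMultLib.idealModι_smul] at ea
    haveI : Nonempty W' := ⟨⟨x, hxW'⟩⟩
    have h1 : c * d * a' = 1 * a' := by rw [mul_assoc, one_mul]; exact (congrArg (c * ·) hd).trans ea
    have ha' : a' ≠ 0 := by
      intro h
      have hg0 : g' = 0 := by refine hd.symm.trans ?_; show d * a' = 0; rw [h, mul_zero]
      have : res (ClSub.idealMod I) hWW g = 0 := QCohLib.app_injective_of_mono (ClSub.idealModι I) W'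
        ((show (ClSub.idealModι I).app W' (res _ hWW g) = 0 from hg0).trans (map_zero _).symm)
      have h10 : (1 : Γ(X, W')) = 0 := ((hg.res hWW) W' le_rfl).1 (by simp [this, AmpleLib.res_refl])
      exact one_ne_zero h10
    exact (Scheme.mem_basicOpen _ _ _ hxW').2 ((IsUnit.of_mul_eq_one d (mul_right_cancel₀ ha' h1)).map _)
  exact ⟨asIso v, kernel.lift_ι _ θ h0⟩

attribute [local instance] HypSqLib.overSq

variable {k : Type u} [Field k] [IsAlgClosed k] {C : Scheme.{u}} [C.Over (Spec (CommRingCat.of k))]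
  [IsProper (C ↘ Spec (CommRingCat.of k))] [Smooth (C ↘ Spec (CommRingCat.of k))] [ConnectedSpace C]
  {Sq : Scheme.{u}} {π : sq k C ⟶ Sq} {q : Sq ⟶ Spec (CommRingCat.of k)} (hS : IsSym π q)
  (hdim : topologicalKrullDim C = 1) (h2 : (2 : k) ≠ 0)

/-- An ideal stable under the swap. -/
def IsStable (I : (sq k C).IdealSheafData) : Prop :=
  ∀ (U : Sq.Opens) (hT : IsAffineOpen (π ⁻¹ᵁ U)), ∀ c ∈ I.ideal ⟨π ⁻¹ᵁ U, hT⟩,
    swA hS.inv U c ∈ I.ideal ⟨π ⁻¹ᵁ U, hT⟩

variable {I : (sq k C).IdealSheafData} (hI : BlowUp.IsEffCartierIdeal I) (hIs : IsStable hS I)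

theorem sw_app_res {U₀ : Sq.Opens} {W : (sq k C).Opens} (e : W ≤ π ⁻¹ᵁ U₀) (e' : sw ⁻¹ᵁ W ≤ π ⁻¹ᵁ U₀)
    (c : Γ(sq k C, π ⁻¹ᵁ U₀)) :
    (sw.app W).hom (((sq k C).presheaf.map (homOfLE e).op).hom c) =
      ((sq k C).presheaf.map (homOfLE e').op).hom (swA hS.inv U₀ c) := by
  show ((sq k C).presheaf.map _ ≫ sw.app _).hom c = (sw.appLE _ _ _ ≫ (sq k C).presheaf.map _).hom c
  rw [Scheme.Hom.app_eq_appLE, Scheme.Hom.appLE_map, Scheme.Hom.map_appLE]

include hIs in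
theorem ideal_sw_le {U₀ : Sq.Opens} (hT₀ : IsAffineOpen (π ⁻¹ᵁ U₀)) {h : Γ(sq k C, π ⁻¹ᵁ U₀)}
    (hinv : swA hS.inv U₀ h = h) (W : (sq k C).affineOpens) (e : W.1 ≤ π ⁻¹ᵁ U₀) (e' : sw ⁻¹ᵁ W.1 ≤ π ⁻¹ᵁ U₀)
    (hW : I.ideal W ≤ Ideal.span {((sq k C).presheaf.map (homOfLE e).op).hom h}) :
    I.ideal ⟨sw ⁻¹ᵁ W.1, W.2.preimage sw⟩ ≤ Ideal.span {((sq k C).presheaf.map (homOfLE e').op).hom h} := by
  rw [← I.map_ideal (U := ⟨sw ⁻¹ᵁ W.1, W.2.preimage sw⟩) (V := ⟨_, hT₀⟩) e', Ideal.map_le_iff_le_comap]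
  intro c hc
  rw [Ideal.mem_comap, ← swA_swA hS U₀ c]
  show ((sq k C).presheaf.map (homOfLE e').op).hom (swA hS.inv U₀ (swA hS.inv U₀ c)) ∈ _
  rw [← sw_app_res hS e e']
  have h1 := hW (I.ideal_le_comap_ideal (U := W) (V := ⟨_, hT₀⟩) e (hIs U₀ hT₀ c hc))
  obtain ⟨d, hd⟩ := Ideal.mem_span_singleton'.1 h1
  refine Ideal.mem_span_singleton'.2 ⟨(sw.app W.1).hom d, ?_⟩
  have h3 : (sw.app W.1).hom (((sq k C).presheaf.map (homOfLE e).op).hom h) =
      ((sq k C).presheaf.map (homOfLE e').op).hom h := (sw_app_res hS e e' h).trans (congrArg _ hinv)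
  rw [← h3, ← map_mul, hd]
  rfl

include hdim hI in
theorem exists_gen_at {T : (sq k C).Opens} (hT : IsAffineOpen T) {x : sq k C} (hx : x ∈ T) :
    ∃ (W : (sq k C).affineOpens) (e : W.1 ≤ T) (u : Γ(sq k C, T)),
      x ∈ W.1 ∧ u ∈ I.ideal ⟨T, hT⟩ ∧
      I.ideal W = Ideal.span {((sq k C).presheaf.map (homOfLE e).op).hom u} ∧
      ((sq k C).presheaf.map (homOfLE e).op).hom u ≠ 0 := by
  haveI := (HypSqLib.integral_sq (k := k) hdim).1
  obtain ⟨V, hxV, u, hu0, hu⟩ := hI x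
  obtain ⟨r, r', hrr, hxr⟩ := exists_basicOpen_le_affine_inter hT V.2 x ⟨hx, hxV⟩
  let D : (sq k C).affineOpens := ⟨(sq k C).basicOpen r, hT.basicOpen r⟩
  have hDT : D.1 ≤ T := (sq k C).basicOpen_le r
  have hDV : D.1 ≤ V.1 := hrr.trans_le ((sq k C).basicOpen_le r')
  haveI : Nonempty D.1 := ⟨⟨x, hxr⟩⟩
  haveI : Nonempty V.1 := ⟨⟨x, hxV⟩⟩
  let uD := ((sq k C).presheaf.map (homOfLE hDV).op).hom u
  have hID : I.ideal D = Ideal.span {uD} := by
    rw [← I.map_ideal (U := D) (V := V) hDV, hu, Ideal.map_span, Set.image_singleton]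
    rfl
  have huD : uD ≠ 0 := fun h0 => mem_nonZeroDivisors_iff_ne_zero.1 hu0
    (map_injective_of_isIntegral (sq k C) (homOfLE hDV) (h0.trans (map_zero _).symm))
  obtain ⟨f, d, hf, hd, hdx⟩ : ∃ (f : Γ(sq k C, T)) (d : Γ(sq k C, D.1)), f ∈ I.ideal ⟨T, hT⟩ ∧
      ((sq k C).presheaf.map (homOfLE hDT).op).hom f = d * uD ∧ x ∈ (sq k C).basicOpen d := by
    by_contra! hcon
    let P := (D.2.primeIdealOf ⟨x, hxr⟩).asIdeal
    have hle' : I.ideal D ≤ P * Ideal.span {uD} := by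
      rw [← I.map_ideal (U := D) (V := ⟨T, hT⟩) hDT, Ideal.map_le_iff_le_comap]
      intro f hf
      have hm : ((sq k C).presheaf.map (homOfLE hDT).op).hom f ∈ I.ideal D :=
        I.ideal_le_comap_ideal (U := D) (V := ⟨T, hT⟩) hDT hf
      rw [hID, Ideal.mem_span_singleton'] at hm
      obtain ⟨d, hd⟩ := hm
      rw [Ideal.mem_comap]
      show ((sq k C).presheaf.map (homOfLE hDT).op).hom f ∈ _
      rw [← hd]
      refine Ideal.mul_mem_mul ?_ (Ideal.mem_span_singleton_self uD)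
      by_contra hdP
      refine hcon f d hf hd.symm ?_
      show ((⟨x, hxr⟩ : D.1) : sq k C) ∈ _
      rw [← D.2.fromSpec_primeIdealOf ⟨x, hxr⟩]
      show D.2.primeIdealOf ⟨x, hxr⟩ ∈ D.2.fromSpec ⁻¹ᵁ (sq k C).basicOpen d
      rw [D.2.fromSpec_preimage_basicOpen]
      exact hdP
    obtain ⟨p, hp, hpu⟩ := Ideal.mem_mul_span_singleton.1 (hle' (hID ▸ Ideal.mem_span_singleton_self uD))
    have : p = 1 := mul_right_cancel₀ huD (by rw [hpu, one_mul])
    exact (D.2.primeIdealOf ⟨x, hxr⟩).isPrime.ne_top ((Ideal.eq_top_iff_one _).2 (this ▸ hp))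
  let W : (sq k C).affineOpens := ⟨(sq k C).basicOpen d, D.2.basicOpen d⟩
  have hWD : W.1 ≤ D.1 := (sq k C).basicOpen_le d
  haveI : Nonempty W.1 := ⟨⟨x, hdx⟩⟩
  have hu2 : IsUnit (((sq k C).presheaf.map (homOfLE hWD).op).hom d) :=
    RingedSpace.isUnit_res_basicOpen (sq k C).toRingedSpace d
  have hm : ((sq k C).presheaf.map (homOfLE (hWD.trans hDT)).op).hom f =
      ((sq k C).presheaf.map (homOfLE hWD).op).hom d * ((sq k C).presheaf.map (homOfLE hWD).op).hom uD := by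
    rw [← map_mul, ← hd]
    exact ConcreteCategory.congr_hom ((sq k C).presheaf.map_comp (homOfLE hDT).op (homOfLE hWD).op) f
  refine ⟨W, hWD.trans hDT, f, hdx, hf, ?_, ?_⟩
  · rw [← I.map_ideal (U := W) (V := D) hWD, hID, Ideal.map_span, Set.image_singleton, hm,
      Ideal.span_singleton_mul_left_unit hu2]
    rfl
  · rw [hm]
    exact fun h => huD (map_injective_of_isIntegral (sq k C) (homOfLE hWD)
      (((mul_eq_zero.1 h).resolve_left hu2.ne_zero).trans (map_zero _).symm))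

include hdim h2 hI hIs in
/-- Invariant local generators. -/
theorem exists_inv_gen (hη : letI := HypSqLib.integral k C; dg (genericPoint C) ∉ I.support) (y : Sq) :
    ∃ (U : Sq.Opens) (_ : IsAffineOpen U) (hT : IsAffineOpen (π ⁻¹ᵁ U)) (b : Γ(Sq, U)),
      y ∈ U ∧ I.ideal ⟨π ⁻¹ᵁ U, hT⟩ = Ideal.span {(π.app U).hom b} ∧ (π.app U).hom b ≠ 0 := by
  haveI := hS.finite
  haveI := (HypSqLib.integral_sq (k := k) hdim).1
  haveI := HypSqLib.integral k C
  obtain ⟨U₀, hU₀, hT₀, a, hyU₀, -, ha, hIΔ, -⟩ := exists_gen hS hdim h2 y (U₀' := ⊤) trivial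
  obtain ⟨x, rfl⟩ := hS.surjective y
  obtain ⟨W, e, u, hxW, hu, hIW, hu0⟩ := exists_gen_at hdim hI hT₀ (x := x) hyU₀
  let T₀ := π ⁻¹ᵁ U₀
  let R := fun {W : (sq k C).Opens} (e : W ≤ T₀) => ((sq k C).presheaf.map (homOfLE e).op).hom
  let s := swA hS.inv U₀
  -- coefficients of the symmetric and antisymmetric parts
  have hsu := hIs U₀ hT₀ u hu
  have hcoef : ∀ c ∈ I.ideal ⟨T₀, hT₀⟩, ∃ d, R e c = d * R e u := fun c hc => by
    have := I.ideal_le_comap_ideal (U := W) (V := ⟨T₀, hT₀⟩) e hc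
    rw [Ideal.mem_comap, hIW, Ideal.mem_span_singleton'] at this
    obtain ⟨d, hd⟩ := this
    exact ⟨d, hd.symm⟩
  obtain ⟨dp, hdp⟩ := hcoef (u + s u) (add_mem hu hsu)
  obtain ⟨dm, hdm⟩ := hcoef (u - s u) (sub_mem hu hsu)
  haveI : Nonempty W.1 := ⟨⟨x, hxW⟩⟩
  have hsum : dp + dm = 2 := mul_right_cancel₀ hu0 (by rw [add_mul, ← hdp, ← hdm, ← map_add, two_mul, ← map_add]; congr 1; ring)
  have hgen : ∀ (c : Γ(sq k C, T₀)) (d : Γ(sq k C, W.1)), R e c = d * R e u → x ∈ (sq k C).basicOpen d →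
      ∃ (W' : (sq k C).affineOpens) (e' : W'.1 ≤ T₀), x ∈ W'.1 ∧ I.ideal W' ≤ Ideal.span {R e' c} := by
    intro c d hd hdx
    let W' : (sq k C).affineOpens := ⟨(sq k C).basicOpen d, W.2.basicOpen d⟩
    have hW' : W'.1 ≤ W.1 := (sq k C).basicOpen_le d
    refine ⟨W', hW'.trans e, hdx, ?_⟩
    have hm : R (hW'.trans e) c = ((sq k C).presheaf.map (homOfLE hW').op).hom d *
        ((sq k C).presheaf.map (homOfLE hW').op).hom (R e u) := by
      rw [← map_mul, ← hd]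
      exact ConcreteCategory.congr_hom ((sq k C).presheaf.map_comp (homOfLE e).op (homOfLE hW').op) c
    have hu2 : IsUnit (((sq k C).presheaf.map (homOfLE hW').op).hom d) :=
      RingedSpace.isUnit_res_basicOpen (sq k C).toRingedSpace d
    rw [← I.map_ideal (U := W') (V := W) hW', hIW, Ideal.map_span, Set.image_singleton, hm,
      Ideal.span_singleton_mul_left_unit hu2]
    exact le_rfl
  -- an invariant element generating near `x`
  obtain ⟨h, hinv, hhI, W', e', hxW', hW'⟩ : ∃ h : Γ(sq k C, T₀), s h = h ∧ h ∈ I.ideal ⟨T₀, hT₀⟩ ∧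
      ∃ (W' : (sq k C).affineOpens) (e' : W'.1 ≤ T₀), x ∈ W'.1 ∧ I.ideal W' ≤ Ideal.span {R e' h} := by
    by_cases hp : x ∈ (sq k C).basicOpen dp
    · exact ⟨u + s u, by rw [map_add, swA_swA hS, add_comm], add_mem hu hsu, hgen _ dp hdp hp⟩
    have hm : x ∈ (sq k C).basicOpen dm := by
      by_contra hm
      have h2x : IsUnit ((sq k C).presheaf.germ W.1 x hxW (dp + dm)) := by
        rw [hsum]; exact (isUnit_two h2 (sq k C ↘ Spec (CommRingCat.of k)) _).map _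
      rw [map_add] at h2x
      rcases IsLocalRing.isUnit_or_isUnit_of_isUnit_add h2x with h | h
      · exact hp ((Scheme.mem_basicOpen _ _ _ hxW).2 h)
      · exact hm ((Scheme.mem_basicOpen _ _ _ hxW).2 h)
    have hanti : s (u - s u) = -(u - s u) := by rw [map_sub, swA_swA hS, neg_sub]
    by_cases hax : x ∈ (sq k C).basicOpen a
    · refine ⟨a * (u - s u), ?_, Ideal.mul_mem_left _ _ (sub_mem hu hsu), ?_⟩
      · show swA hS.inv U₀ _ = _
        rw [map_mul, ha, hanti, neg_mul_neg]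
      refine hgen _ (R e a * dm) (by rw [map_mul, hdm, mul_assoc]) ?_
      rw [Scheme.basicOpen_mul]
      refine ⟨?_, hm⟩
      rw [Scheme.basicOpen_res]; exact ⟨hxW, hax⟩
    exfalso
    obtain ⟨W', e', hxW', hW'⟩ := hgen _ dm hdm hm
    have hc : u - s u ∈ (dg (k := k) (C := C)).ker.ideal ⟨T₀, hT₀⟩ := by
      rw [Scheme.Hom.ker_apply, RingHom.mem_ker]; exact dg_anti hS h2 U₀ hanti
    rw [hIΔ] at hc
    obtain ⟨b, hb⟩ := Ideal.mem_span_singleton'.1 hc
    have hxΔ : x ∈ (dg (k := k) (C := C)).ker.support := by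
      refine (Scheme.IdealSheafData.mem_support_iff_of_mem (U := (⟨T₀, hT₀⟩ : (sq k C).affineOpens)) hyU₀).mpr ?_
      rw [hIΔ, Scheme.zeroLocus_span, Scheme.mem_zeroLocus_iff]
      rintro c rfl
      exact hax
    rw [← SetLike.mem_coe, Scheme.Hom.support_ker, dg.isClosedEmbedding.isClosed_range.closure_eq] at hxΔ
    obtain ⟨c, rfl⟩ := hxΔ
    have hηW : dg (genericPoint C) ∈ W'.1 :=
      (((genericPoint_spec C).specializes trivial).map dg.continuous).mem_open W'.1.isOpen hxW'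
    refine hη ((Scheme.IdealSheafData.mem_support_iff_of_mem (U := W') hηW).mpr ?_)
    rw [Scheme.mem_zeroLocus_iff]
    intro c' hc' hc''
    obtain ⟨d, hd⟩ := Ideal.mem_span_singleton'.1 (hW' hc')
    rw [← hd, Scheme.basicOpen_mul, Scheme.basicOpen_res, ← hb, Scheme.basicOpen_mul] at hc''
    have h0 : genericPoint C ∈ C.basicOpen ((dg.app T₀).hom a) := by
      rw [← Scheme.preimage_basicOpen]; exact hc''.2.2.2
    rw [dg_anti hS h2 U₀ ha, Scheme.basicOpen_zero] at h0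
    exact h0
  let G : (sq k C).Opens := ⟨{z | ∃ (W : (sq k C).affineOpens) (e : W.1 ≤ T₀), z ∈ W.1 ∧
      I.ideal W ≤ Ideal.span {R e h}}, by
    refine isOpen_iff_forall_mem_open.2 fun z ⟨W, e, hz, hW⟩ => ⟨W.1, fun z' hz' => ⟨W, e, hz', hW⟩, W.1.isOpen, hz⟩⟩
  have hGs : ∀ z ∈ G, sw z ∈ G := by
    rintro z ⟨W₁, e₁, hz, hW₁⟩
    let W₂ : (sq k C).affineOpens := ⟨sw ⁻¹ᵁ W₁.1, W₁.2.preimage sw⟩
    have e₂ : W₂.1 ≤ T₀ := fun w hw => by
      have h1 : π (sw w) ∈ U₀ := e₁ hw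
      rwa [← Scheme.Hom.comp_apply, hS.inv] at h1
    exact ⟨W₂, e₂, show sw (sw z) ∈ W₁.1 by rwa [sw_apply_apply], ideal_sw_le hS hIs hT₀ hinv W₁ e₁ e₂ hW₁⟩
  obtain ⟨U, hU, hxU, hUU, hUG⟩ := exists_affine_saturated hS hGs ⟨W', e', hxW', hW'⟩ hyU₀
  have hT : IsAffineOpen (π ⁻¹ᵁ U) := hU.preimage π
  have eT : π ⁻¹ᵁ U ≤ T₀ := fun z hz => hUU hz
  obtain ⟨b, hb⟩ := hS.range U (R eT h) ((swA_res hS hUU h).trans (congrArg _ hinv))
  have hhU : (π.app U).hom b ∈ I.ideal ⟨π ⁻¹ᵁ U, hT⟩ :=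
    hb ▸ I.ideal_le_comap_ideal (U := ⟨π ⁻¹ᵁ U, hT⟩) (V := ⟨T₀, hT₀⟩) eT hhI
  have hIU : I.ideal ⟨π ⁻¹ᵁ U, hT⟩ = Ideal.span {(π.app U).hom b} := by
    refine ideal_eq_span_of_cover I ⟨π ⁻¹ᵁ U, hT⟩ hhU fun z hz => ?_
    obtain ⟨W₁, e₁, hzW, hW₁⟩ := hUG hz
    obtain ⟨r₁, r₂, h12, hz1⟩ := exists_basicOpen_le_affine_inter hT W₁.2 z ⟨hz, hzW⟩
    let E : (sq k C).affineOpens := ⟨(sq k C).basicOpen r₁, hT.basicOpen r₁⟩
    have h1 : E.1 ≤ π ⁻¹ᵁ U := (sq k C).basicOpen_le r₁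
    have h2' : E.1 ≤ W₁.1 := h12.trans_le ((sq k C).basicOpen_le r₂)
    refine ⟨E, h1, hz1, ?_⟩
    rw [← I.map_ideal (U := E) (V := W₁) h2', hb, Ideal.map_le_iff_le_comap]
    intro c hc
    obtain ⟨d, hd⟩ := Ideal.mem_span_singleton'.1 (hW₁ hc)
    refine Ideal.mem_span_singleton'.2 ⟨((sq k C).presheaf.map (homOfLE h2').op).hom d, ?_⟩
    refine Eq.trans (congrArg (_ * ·) ?_) ((map_mul _ _ _).symm.trans (congrArg _ hd))
    show ((sq k C).presheaf.map _ ≫ (sq k C).presheaf.map _).hom h = ((sq k C).presheaf.map _ ≫ (sq k C).presheaf.map _).hom h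
    rw [← Functor.map_comp, ← Functor.map_comp]
    rfl
  refine ⟨U, hU, hT, b, hxU, hIU, fun h0 => ?_⟩
  have hbot : I.ideal ⟨π ⁻¹ᵁ U, hT⟩ = ⊥ := by rw [hIU, h0, Ideal.span_singleton_eq_bot]
  obtain ⟨r₁, r₂, h12, hz1⟩ := exists_basicOpen_le_affine_inter hT W.2 x ⟨hxU, hxW⟩
  let E : (sq k C).affineOpens := ⟨(sq k C).basicOpen r₁, hT.basicOpen r₁⟩
  have h2' : E.1 ≤ W.1 := h12.trans_le ((sq k C).basicOpen_le r₂)
  haveI : Nonempty E.1 := ⟨⟨x, hz1⟩⟩
  have := I.map_ideal (U := E) (V := W) h2'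
  rw [hIW, ← I.map_ideal (U := E) (V := ⟨_, hT⟩) ((sq k C).basicOpen_le r₁), hbot, Ideal.map_bot, Ideal.map_span,
    Set.image_singleton, Ideal.span_singleton_eq_bot] at this
  exact hu0 (map_injective_of_isIntegral (sq k C) (homOfLE h2') (this.trans (map_zero _).symm))

include hdim h2 hI hIs in
/-- A symmetric effective Cartier ideal descends. -/
theorem exists_descend (hη : letI := HypSqLib.integral k C; dg (genericPoint C) ∉ I.support) :
    ∃ J : Sq.IdealSheafData, BlowUp.IsEffCartierIdeal J ∧ PicF.IsInvertible (ClSub.idealMod J) ∧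
      Nonempty (pb π (ClSub.idealMod J) ≅ ClSub.idealMod I) := by
  haveI := hS.finite
  haveI := (HypSqLib.integral_sq (k := k) hdim).1
  haveI := integral hS hdim
  choose U hU hT b hy hIb hb0 using exists_inv_gen hS hdim h2 hI hIs hη
  let J := I.map π
  have hJ : ∀ y, J.ideal ⟨U y, hU y⟩ = Ideal.span {b y} := fun y => by
    ext c
    have hc : c ∈ J.ideal ⟨U y, hU y⟩ ↔ (π.app (U y)).hom c ∈ I.ideal ⟨π ⁻¹ᵁ U y, hT y⟩ := by
      show c ∈ (I.subschemeι ≫ π).ker.ideal _ ↔ _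
      rw [Scheme.Hom.ker_apply, RingHom.mem_ker, Scheme.Hom.comp_app]
      exact (RingHom.mem_ker (f := (I.subschemeι.app (π ⁻¹ᵁ U y)).hom)).symm.trans
        (SetLike.ext_iff.1 (Scheme.IdealSheafData.ker_subschemeι_app I ⟨π ⁻¹ᵁ U y, hT y⟩) _)
    rw [hc, hIb, Ideal.mem_span_singleton', Ideal.mem_span_singleton']
    constructor
    · rintro ⟨t, ht⟩
      obtain ⟨t', rfl⟩ := hS.range (U y) t (by
        haveI : Nonempty (π ⁻¹ᵁ U y) := by
          obtain ⟨x, hx⟩ := hS.surjective y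
          exact ⟨⟨x, show π x ∈ U y from hx ▸ hy y⟩⟩
        refine mul_right_cancel₀ (hb0 y) ?_
        calc swA hS.inv (U y) t * (π.app (U y)).hom (b y)
            = swA hS.inv (U y) (t * (π.app (U y)).hom (b y)) := by rw [map_mul, swA_app hS]
          _ = t * (π.app (U y)).hom (b y) := by rw [ht, swA_app hS])
      exact ⟨t', hS.inj (U y) (by rw [map_mul, ht])⟩
    · rintro ⟨t, rfl⟩; exact ⟨_, (map_mul _ _ _).symm⟩
  have hne : ∀ y, Nonempty (U y) := fun y => ⟨⟨y, hy y⟩⟩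
  have hJc : BlowUp.IsEffCartierIdeal J := fun y => by
    haveI := hne y
    refine ⟨⟨U y, hU y⟩, hy y, b y, mem_nonZeroDivisors_iff_ne_zero.2 fun h => hb0 y (by rw [h, map_zero]), hJ y⟩
  have hJi := IntMultLib.isInvertible_idealMod J hJc
  choose σ hσ using fun y => IntMultLib.exists_section J ⟨U y, hU y⟩ (hJ y ▸ Ideal.mem_span_singleton_self (b y))
  have hσg : ∀ y, GenOn (ClSub.idealMod J) (σ y) := fun y => by
    refine TwistLib.genOn_of_genAt fun z hz => ?_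
    obtain ⟨W, g, hzW, hg⟩ := TwistLib.exists_genOn hJi z
    obtain ⟨W', hW'a, hzW', hW'le⟩ := exists_isAffineOpen_mem_and_subset (U := W ⊓ U y) (x := z) ⟨hzW, hz⟩
    have hWU : W' ≤ U y := fun w hw => (hW'le hw).2
    have hWW : W' ≤ W := fun w hw => (hW'le hw).1
    refine (AmpleLib.genAt_res hWU (σ y) hzW').1 ?_
    obtain ⟨c, hc⟩ := (hg W' hWW).2 (res _ hWU (σ y))
    dsimp only at hc
    rw [← hc, AmpleLib.genAt_smul_iff _ _ hzW' ((hg.res hWW).genAt hzW')]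
    let b' : Γ(Sq, W') := (Sq.presheaf.map (homOfLE hWU).op).hom (b y)
    let g' : Γ(Sq, W') := (ClSub.idealModι J).app W' (res _ hWW g)
    have hb' : c * g' = b' := by
      have := (QCohLib.app_map (ClSub.idealModι J) (homOfLE hWU) (σ y)).trans (congrArg _ (hσ y))
      rw [← IntMultLib.idealModι_smul]
      exact (congrArg (fun t => (ClSub.idealModι J).app W' t) hc).trans this
    have hg' : g' ∈ J.ideal ⟨W', hW'a⟩ := (IntMultLib.toSubscheme_app_eq_zero_iff J ⟨W', hW'a⟩ _).1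
      (ConcreteCategory.congr_hom (congrArg (fun φ : ClSub.idealMod J ⟶ ClSub.quotMod J => φ.app W')
        (kernel.condition (ClSub.toSubscheme J))) _)
    rw [← J.map_ideal (U := ⟨W', hW'a⟩) (V := ⟨_, hU y⟩) hWU, hJ y, Ideal.map_span, Set.image_singleton] at hg'
    obtain ⟨d, hd⟩ := Ideal.mem_span_singleton'.1 hg'
    haveI := hne y
    haveI : Nonempty W' := ⟨⟨z, hzW'⟩⟩
    have hb'0 : b' ≠ 0 := fun h => hb0 y (by
      rw [map_injective_of_isIntegral Sq (homOfLE hWU) (h.trans (map_zero _).symm), map_zero])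
    refine (Scheme.mem_basicOpen _ _ _ hzW').2 ((IsUnit.of_mul_eq_one d (mul_right_cancel₀ hb'0 ?_)).map _)
    rw [mul_assoc, one_mul]
    exact (congrArg (c * ·) hd).trans hb'
  let θ := (Scheme.Modules.pullback π).map (ClSub.idealModι J) ≫ (KFlatLib.pullUnitIso π).hom
  have hθ : ∀ y, θ.app (π ⁻¹ᵁ U y) (puSec π (σ y)) = (π.app (U y)).hom (b y) := fun y => by
    show (KFlatLib.pullUnitIso π).hom.app _ (((Scheme.Modules.pullback π).map (ClSub.idealModι J)).app _ (puSec π (σ y))) = _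
    rw [KFlatLib.puSec_natural, CohCmpLib.pullUnitIso_puSec, hσ]
    rfl
  obtain ⟨v, -⟩ := exists_iso_idealMod I hI θ (fun y => ⟨π ⁻¹ᵁ U y, hT y⟩) (fun x => ⟨π x, hy (π x)⟩)
    (fun y => puSec π (σ y)) (fun y => AmpleDevLib.puSec_genOn π (hσg y))
    (fun y => (hIb y).trans (by rw [hθ]))
  exact ⟨J, hJc, hJi, ⟨v⟩⟩

end SymSqLib
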