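import Groth.Agent.SymSqLib.Split
import Groth.Agent.QCohLib.Push

/-! Cohomology and intersection numbers on the symmetric square. -/

set_option autoImplicit false
set_option linter.style.haveILetI false
set_option linter.unusedSectionVars false
set_option maxHeartbeats 1000000

universe u

open CategoryTheory CategoryTheory.Limits AlgebraicGeometry TopologicalSpace Opposite
open KFlatLib (pb puSec)
open HypSqLib (sq)
open HilbPolyLib (congrLeft congrRight assocIso swapIso unitLeft)

noncomputable section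

namespace SymSqLib

attribute [local instance] HypSqLib.overSq

variable {k : Type u} [Field k] [IsAlgClosed k] {C : Scheme.{u}} [C.Over (Spec (CommRingCat.of k))]
  [IsProper (C ↘ Spec (CommRingCat.of k))] [Smooth (C ↘ Spec (CommRingCat.of k))] [ConnectedSpace C]
  {Sq : Scheme.{u}} [Sq.Over (Spec (CommRingCat.of k))] {π : sq k C ⟶ Sq}
  (hS : IsSym π (Sq ↘ Spec (CommRingCat.of k))) (h2 : (2 : k) ≠ 0) (hdim : topologicalKrullDim C = 1)
  {M : Sq.Modules} (hM : PicF.IsInvertible M)

include hM in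
theorem tens_pO : Nonempty (CohB1.tensorMod M (pO π) ≅ (Coh.push π).obj (pb π M)) :=
  ⟨((ProjFormLib.projIso' π M (CurveVBLib.isFinLocFree_of_rank (CurvLib.locFree_of_isInvertible hM))).app
      (Coh.structureModule (sq k C))) ≪≫ (Coh.push π).mapIso (swapIso _ _ ≪≫ unitLeft (pb π M))⟩

/-- The split sequence tensored with an invertible module. -/
abbrev twSeq (M : Sq.Modules) : ShortComplex Sq.Modules := (trSeq hS h2).map (CurvLib.tensorLeft' M)

include hM in
theorem twSeq_shortExact : (twSeq hS h2 M).ShortExact :=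
  CurvLib.shortExact_tensor_locFree (CurvLib.locFree_of_isInvertible hM) (trSeq_shortExact hS h2)

include hS in
theorem over' : π ≫ (Sq ↘ Spec (CommRingCat.of k)) = sq k C ↘ Spec (CommRingCat.of k) := hS.hover

include hS hM in
theorem hh_push (n : ℕ) : Module.finrank k (Coh.HH Sq (CohB1.tensorMod M (pO π)) n) =
    Module.finrank k (Coh.HH (sq k C) (pb π M) n) := by
  haveI := hS.finite
  haveI := hS.proper
  haveI := HypSqLib.proper_sq (k := k) (C := C)
  haveI := CurvLib.isNoetherian k (X := sq k C)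
  haveI := (CurvLib.isCoh_of_isInvertible (AmpleDevLib.isInvertible_pb π hM)).1
  obtain ⟨e⟩ := tens_pO (π := π) hM
  rw [(CurvLib.hIso (k := k) e n).finrank_eq, ← (PushLinLib.euler_push k π (over' hS) (pb π M)).1 n]

include hS h2 hdim hM in
theorem coh_twSeq : Coh.IsCoh (twSeq hS h2 M).X₁ ∧ Coh.IsCoh (twSeq hS h2 M).X₂ ∧ Coh.IsCoh (twSeq hS h2 M).X₃ := by
  haveI := hS.finite
  haveI := hS.proper
  haveI := HypSqLib.proper_sq (k := k) (C := C)
  haveI := CurvLib.isNoetherian k (X := sq k C)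
  haveI := CurvLib.isNoetherian k (X := Sq)
  obtain ⟨e⟩ := tens_pO (π := π) hM
  have h₃ : Coh.IsCoh (CohB1.tensorMod M (Coh.structureModule Sq)) :=
    CurvLib.isCoh_of_isInvertible (HilbPolyLib.isInvertible_tensor hM CurvLib.isInvertible_structureModule)
  have h₂ : Coh.IsCoh (CohB1.tensorMod M (pO π)) :=
    QCohLib.isCoh_of_iso e.symm (QCohLib.isCoh_push_finite π _ (CurvLib.isCoh_of_isInvertible (AmpleDevLib.isInvertible_pb π hM)))
  exact ⟨CurvLib.isCoh_of_isInvertible (HilbPolyLib.isInvertible_tensor hM (E_inv hS h2 hdim)), h₂, h₃⟩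

include hS h2 hdim hM in
theorem euler_pb : Curv2.euler k (sq k C) (pb π M) =
    Curv2.euler k Sq M + Curv2.euler k Sq (CohB1.tensorMod M (E hS h2)) := by
  haveI := hS.proper
  haveI := HypSqLib.proper_sq (k := k) (C := C)
  obtain ⟨a, b, c⟩ := coh_twSeq hS h2 hdim hM
  have h := CurvLib.euler_add_of_isCoh (k := k) (S := twSeq hS h2 M) (twSeq_shortExact hS h2 hM) a b c
  have x1 : (twSeq hS h2 M).X₁ = CohB1.tensorMod M (E hS h2) := rfl
  have x2 : (twSeq hS h2 M).X₂ = CohB1.tensorMod M (pO π) := rfl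
  have x3 : (twSeq hS h2 M).X₃ = CohB1.tensorMod M (Coh.structureModule Sq) := rfl
  rw [x1, x2, x3] at h
  rw [CurvLib.euler_congr (k := k) (swapIso M (Coh.structureModule Sq) ≪≫ unitLeft M)] at h
  have e : Curv2.euler k (sq k C) (pb π M) = Curv2.euler k Sq (CohB1.tensorMod M (pO π)) :=
    finsum_congr fun n => by rw [hh_push hS hM n]
  rw [e, h, add_comm]

omit [Sq.Over (Spec (CommRingCat.of k))] in
theorem finrank_le_of_retraction {X : Scheme.{u}} [X.Over (Spec (CommRingCat.of k))] [IsProper (X ↘ Spec (CommRingCat.of k))]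
    {A B : X.Modules} (i : A ⟶ B) (p : B ⟶ A) (hip : i ≫ p = 𝟙 A) (hB : Coh.IsCoh B) (n : ℕ) :
    Module.finrank k (Coh.HH X A n) ≤ Module.finrank k (Coh.HH X B n) := by
  haveI := CurvLib.isNoetherian k (X := X)
  haveI := CurvLib.finite_HH (k := k) hB n
  refine LinearMap.finrank_le_finrank_of_injective (f := CurvLib.hMap (k := k) i n) fun x y h => ?_
  have h' := congrArg (CurvLib.hMap (k := k) p n) h
  rwa [← CurvLib.hMap_comp, ← CurvLib.hMap_comp, hip, CurvLib.hMap_apply, CurvLib.hMap_apply,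
    CategoryTheory.Functor.map_id, Sheaf.H.map_id_apply, Sheaf.H.map_id_apply] at h'

include hS h2 hdim hM in
theorem h_le (n : ℕ) : Module.finrank k (Coh.HH Sq M n) ≤ Module.finrank k (Coh.HH (sq k C) (pb π M) n) := by
  haveI := hS.proper
  obtain ⟨-, b, -⟩ := coh_twSeq hS h2 hdim hM
  have o2 : (twSeq hS h2 M).X₂ = (CurvLib.tensorLeft' M).obj (pO π) := rfl
  rw [o2] at b
  have h := finrank_le_of_retraction (k := k) ((CurvLib.tensorLeft' M).map (ClSub.unitToPush π))
    ((CurvLib.tensorLeft' M).map (tr hS h2))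
    (((CurvLib.tensorLeft' M).map_comp _ _).symm.trans ((congrArg _ (unit_tr hS h2)).trans ((CurvLib.tensorLeft' M).map_id _))) b n
  have o1 : (CurvLib.tensorLeft' M).obj (Coh.structureModule Sq) = CohB1.tensorMod M (Coh.structureModule Sq) := rfl
  have o3 : (CurvLib.tensorLeft' M).obj (pO π) = CohB1.tensorMod M (pO π) := rfl
  rw [o3, hh_push hS hM n] at h
  erw [o1, (CurvLib.hIso (k := k) (swapIso M (Coh.structureModule Sq) ≪≫ unitLeft M) n).finrank_eq] at h
  exact h

section Pr

variable {P Q : Sq.Modules} (hP : PicF.IsInvertible P) (hQ : PicF.IsInvertible Q)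

include hS hdim in
theorem proper_dim : topologicalKrullDim Sq ≤ ((2 : ℕ) : WithBot ℕ∞) ∧
    topologicalKrullDim (CohB1.support (Coh.structureModule Sq)) ≤ ((2 : ℕ) : WithBot ℕ∞) :=
  ⟨(dim_eq hS hdim).le, (topologicalKrullDim_subspace_le _ _).trans (dim_eq hS hdim).le⟩

include hS h2 hdim hP hQ in
theorem pr_pb : HodgeIdxLib.pr k (pb π P) (pb π Q) = 2 * HodgeIdxLib.pr k P Q := by
  haveI := hS.proper
  haveI := CurvLib.isNoetherian k (X := Sq)
  have hE := E_inv hS h2 hdim
  have hU : PicF.IsInvertible (Coh.structureModule Sq) := CurvLib.isInvertible_structureModule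
  have hX := (proper_dim hS hdim).1
  let e (A B : Sq.Modules) := (PicPnLib.pullTens π A B).symm
  rw [HypSqLib.pr_expand, HypSqLib.pr_expand,
    CurvLib.euler_congr (k := k) (show CohB1.tensorMod (pb π Q) (pb π P) ≅ pb π (CohB1.tensorMod Q P) from e Q P),
    ← CurvLib.euler_congr (k := k) (KFlatLib.pullUnitIso π),
    euler_pb hS h2 hdim (HilbPolyLib.isInvertible_tensor hQ hP), euler_pb hS h2 hdim hP, euler_pb hS h2 hdim hQ,
    euler_pb hS h2 hdim hU, CurvLib.euler_congr (k := k) (unitLeft (E hS h2))]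
  have t := HodgeIdxLib.pr_tensor (k := k) (Q := P) hX hQ hE hP
  have t2 := HypSqLib.pr_expand (k := k) (X := Sq) Q P
  have t3 := HypSqLib.pr_expand (k := k) (X := Sq) (E hS h2) P
  have t4 := HypSqLib.pr_expand (k := k) (X := Sq) (CohB1.tensorMod Q (E hS h2)) P
  have s1 : Curv2.euler k Sq (CohB1.tensorMod P (CohB1.tensorMod Q (E hS h2))) =
      Curv2.euler k Sq (CohB1.tensorMod (CohB1.tensorMod Q P) (E hS h2)) :=
    CurvLib.euler_congr (k := k) ((assocIso _ _ _).symm ≪≫ congrLeft (swapIso _ _) _)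
  have s2 : Curv2.euler k Sq (CohB1.tensorMod P Q) = Curv2.euler k Sq (CohB1.tensorMod Q P) :=
    CurvLib.euler_congr (k := k) (swapIso _ _)
  rw [s1] at t4
  linarith

include hS h2 hdim hP in
theorem pr_E : 2 * HodgeIdxLib.pr k (E hS h2) P =
    HodgeIdxLib.pr k (ClSub.idealMod (dg (k := k) (C := C)).ker) (pb π P) := by
  haveI := HypSqLib.proper_sq (k := k) (C := C)
  obtain ⟨e⟩ := pb_E hS h2 hdim
  rw [← pr_pb hS h2 hdim (E_inv hS h2 hdim) hP, HodgeIdxLib.pr, HodgeIdxLib.N_congr_head e]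
  rfl

include hS h2 hdim hP in
theorem euler_diff : 4 * (Curv2.euler k Sq P - Curv2.euler k Sq (Coh.structureModule Sq)) =
    2 * (Curv2.euler k (sq k C) (pb π P) - Curv2.euler k (sq k C) (Coh.structureModule (sq k C))) -
      HodgeIdxLib.pr k (ClSub.idealMod (dg (k := k) (C := C)).ker) (pb π P) := by
  have hU : PicF.IsInvertible (Coh.structureModule Sq) := CurvLib.isInvertible_structureModule
  rw [← CurvLib.euler_congr (k := k) (KFlatLib.pullUnitIso π), euler_pb hS h2 hdim hU, euler_pb hS h2 hdim hP,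
    CurvLib.euler_congr (k := k) (unitLeft (E hS h2)), ← pr_E hS h2 hdim hP, HypSqLib.pr_expand]
  ring

end Pr

end SymSqLib
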