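import Mathlib.LinearAlgebra.Eigenspace.Triangularizable
import Mathlib.LinearAlgebra.TensorProduct.Basis
import Mathlib.LinearAlgebra.Dimension.Finrank
import Mathlib.Data.Sym.Card

/-! Symmetric tensors. -/

set_option autoImplicit false
set_option linter.style.haveILetI false

universe u

open scoped TensorProduct

namespace SymSqLib

variable {k : Type u} [Field k] {H : Type*} [AddCommGroup H] [Module k H] [FiniteDimensional k H]

/-- The fixed tensors of the interchange have dimension `n (n + 1) / 2`. -/
theorem two_mul_finrank_symm :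
    2 * Module.finrank k (LinearMap.ker ((TensorProduct.comm k H H).toLinearMap - LinearMap.id)) =
      Module.finrank k H * (Module.finrank k H + 1) := by
  let b := Module.finBasis k H
  let bb := b.tensorProduct b
  have hrepr : ∀ a i j, bb.repr (TensorProduct.comm k H H a) (i, j) = bb.repr a (j, i) := by
    intro a i j
    induction a using TensorProduct.induction_on with
    | zero => simp
    | tmul x y => simp only [bb, TensorProduct.comm_tmul, Module.Basis.tensorProduct_repr_tmul_apply, smul_eq_mul]; ring
    | add x y hx hy => simp only [map_add, Finsupp.add_apply, hx, hy]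
  have hmem : ∀ a, a ∈ LinearMap.ker ((TensorProduct.comm k H H).toLinearMap - LinearMap.id) ↔
      ∀ i j, bb.repr a (i, j) = bb.repr a (j, i) := fun a => by
    rw [LinearMap.mem_ker, LinearMap.sub_apply, sub_eq_zero, LinearMap.id_apply, LinearEquiv.coe_coe]
    constructor
    · intro h i j; rw [← hrepr a j i, h]
    · intro h; exact bb.repr.injective (Finsupp.ext fun ⟨i, j⟩ => (hrepr a i j).trans (h j i))
  let e : LinearMap.ker ((TensorProduct.comm k H H).toLinearMap - LinearMap.id) ≃ₗ[k]
      (Sym2 (Fin (Module.finrank k H)) → k) :=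
    { toFun := fun a => Sym2.lift ⟨fun i j => bb.repr a.1 (i, j), (hmem a.1).1 a.2⟩
      invFun := fun φ => ⟨bb.equivFun.symm fun p => φ s(p.1, p.2), (hmem _).2 fun i j => by
        rw [← Module.Basis.equivFun_apply, LinearEquiv.apply_symm_apply]
        exact congrArg φ Sym2.eq_swap⟩
      map_add' := fun a a' => funext fun z => Sym2.inductionOn z fun i j => by simp
      map_smul' := fun c a => funext fun z => Sym2.inductionOn z fun i j => by simp
      left_inv := fun a => Subtype.ext (bb.equivFun.injective (by
        rw [LinearEquiv.apply_symm_apply]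
        funext p
        simp [Module.Basis.equivFun_apply]))
      right_inv := fun φ => funext fun z => Sym2.inductionOn z fun i j => by
        simp only [Sym2.lift_mk]
        rw [← Module.Basis.equivFun_apply, LinearEquiv.apply_symm_apply] }
  rw [e.finrank_eq, Module.finrank_fintype_fun_eq_card, Sym2.card, Fintype.card_fin,
    Nat.choose_two_right, Nat.add_sub_cancel,
    Nat.mul_div_cancel' (Nat.two_dvd_mul_add_one _ |> fun h => by rwa [mul_comm])]
  ring

variable [IsAlgClosed k] {A : Type*} [CommRing A] [IsDomain A] [Algebra k A]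

/-- A function preserving a finite dimensional space of functions is constant. -/
theorem exists_eq_const [Nontrivial H] (Φ : H →ₗ[k] A) (hΦ : Function.Injective Φ) (r : A)
    (hr : ∀ a, ∃ b, r * Φ a = Φ b) : ∃ c : k, r = algebraMap k A c := by
  let R : Module.End k H := (LinearEquiv.ofInjective Φ hΦ).symm.toLinearMap ∘ₗ
    LinearMap.codRestrict (LinearMap.range Φ) ((LinearMap.mulLeft k r).comp Φ) fun a => by
      obtain ⟨b, hb⟩ := hr a; exact ⟨b, hb.symm⟩
  have hR : ∀ a, Φ (R a) = r * Φ a := fun a =>
    congrArg Subtype.val ((LinearEquiv.ofInjective Φ hΦ).apply_symm_apply _)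
  obtain ⟨c, hc⟩ := Module.End.exists_eigenvalue R
  obtain ⟨a, ha⟩ := hc.exists_hasEigenvector
  refine ⟨c, mul_right_cancel₀ (fun h => ha.2 (hΦ (h.trans (map_zero Φ).symm))) ?_⟩
  rw [← hR, ha.apply_eq_smul, map_smul, Algebra.smul_def]

end SymSqLib
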