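import Groth.Agent.SymSqLib.Euler
import Groth.Agent.SymSqLib.SymAlg
import Groth.Agent.KunnethDiagLib.Geom
import Groth.Agent.HypSqLib.Chart
import Groth.Agent.DerBCLib.LocQ

/-! Sections of symmetric bundles on the symmetric square. -/

set_option autoImplicit false
set_option linter.style.haveILetI false
set_option linter.unusedSectionVars false

universe u

open CategoryTheory CategoryTheory.Limits AlgebraicGeometry TopologicalSpace Opposite
open KFlatLib (pb puSec puSecLE shTm)
open RpushLib (secFun)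
open CohBCLib (secA rsA)
open AmpleLib (GenOn GenAt res)
open HypSqLib (sq)
open HilbPolyLib (congrLeft congrRight assocIso swapIso unitLeft)
open scoped TensorProduct

noncomputable section

namespace SymSqLib

attribute [local instance] HypSqLib.overSq

variable {k : Type u} [Field k]

/-- Sections as a vector space. -/
abbrev Sec {X : Scheme.{u}} (f : X ⟶ Spec (CommRingCat.of k)) (M : X.Modules) (V : X.Opens) : Type u :=
  ((secFun V (secA f V)).obj M : Type u)

theorem finrank_sec {X : Scheme.{u}} [X.Over (Spec (CommRingCat.of k))] (M : X.Modules) :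
    Module.finrank k (Coh.HH X M 0) = Module.finrank k (Sec (X ↘ Spec (CommRingCat.of k)) M ⊤) := by
  letI := CurvLib.secModule (k := k) M
  have e : ∀ c : k, secA (X ↘ Spec (CommRingCat.of k)) ⊤ c = Coh.toGlobal (X ↘ Spec (CommRingCat.of k)) c := fun c => by
    show (((X ↘ Spec (CommRingCat.of k))).appLE ⊤ ⊤ le_top).hom _ = _
    simp [Coh.toGlobal, Scheme.Hom.app_eq_appLE]
    rfl
  rw [(CurvLib.hhZeroEquiv (k := k) M).finrank_eq]
  refine LinearEquiv.finrank_eq
    { toFun := fun x => (show Sec (X ↘ Spec (CommRingCat.of k)) M ⊤ from x)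
      invFun := fun x => (show Γ(M, ⊤) from x)
      map_add' := fun _ _ => rfl
      map_smul' := fun c x => by
        show (show Γ(X, ⊤) from Coh.toGlobal (X ↘ Spec (CommRingCat.of k)) c) • x =
          (show Γ(X, ⊤) from secA (X ↘ Spec (CommRingCat.of k)) ⊤ c) • x
        rw [e]
      left_inv := fun _ => rfl
      right_inv := fun _ => rfl }

variable [IsAlgClosed k] {C : Scheme.{u}} [C.Over (Spec (CommRingCat.of k))]
  [IsProper (C ↘ Spec (CommRingCat.of k))] [Smooth (C ↘ Spec (CommRingCat.of k))] [ConnectedSpace C]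
  {Sq : Scheme.{u}} [Sq.Over (Spec (CommRingCat.of k))] {π : sq k C ⟶ Sq}
  (hS : IsSym π (Sq ↘ Spec (CommRingCat.of k))) (h2 : (2 : k) ≠ 0) (hdim : topologicalKrullDim C = 1)
  {L : C.Modules} {M : Sq.Modules} (eM : pb π M ≅ HypSqLib.box L L)

/-- The unitor. -/
abbrev μI (M : Sq.Modules) : KFlatLib.tens M (Coh.structureModule Sq) ≅ M :=
  KFlatLib.tensSwap (Coh.structureModule Sq) M ≪≫ KFlatLib.tensUnitIso M

/-- The identification on the square. -/
abbrev θI : KFlatLib.tens (pb π M) (Coh.structureModule (sq k C)) ≅ HypSqLib.box L L :=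
  (KFlatLib.tensSwap (Coh.structureModule (sq k C)) (pb π M) ≪≫ KFlatLib.tensUnitIso (pb π M)) ≪≫ eM

/-- Pullback of sections. -/
def up : M ⟶ (Scheme.Modules.pushforward π).obj (HypSqLib.box L L) :=
  (μI M).inv ≫ (ProjFormLib.tF M).map (ClSub.unitToPush π) ≫
    ProjFormLib.projApp π M (Coh.structureModule (sq k C)) ≫ (Scheme.Modules.pushforward π).map (θI eM).hom

/-- Averaging of sections. -/
def down (hM : PicF.IsInvertible M) : (Scheme.Modules.pushforward π).obj (HypSqLib.box L L) ⟶ M :=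
  haveI := ProjFormLib.isIso_projApp π (E := M) (CurveVBLib.isFinLocFree_of_rank (CurvLib.locFree_of_isInvertible hM))
    (Coh.structureModule (sq k C))
  (Scheme.Modules.pushforward π).map (θI eM).inv ≫ inv (ProjFormLib.projApp π M (Coh.structureModule (sq k C))) ≫
    (ProjFormLib.tF M).map (tr hS h2) ≫ (μI M).hom

variable {U : Sq.Opens} (t : Γ(M, U))

/-- The frame on the symmetric square. -/
def tq : Γ(M, U) :=
  (μI M).hom.app U (shTm t (show Γ(Coh.structureModule Sq, U) from (1 : Γ(Sq, U))))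

/-- The frame on the square. -/
def vX : Γ(HypSqLib.box L L, π ⁻¹ᵁ U) :=
  (θI eM).hom.app (π ⁻¹ᵁ U)
    (shTm (puSec π t) (show Γ(Coh.structureModule (sq k C), π ⁻¹ᵁ U) from (1 : Γ(sq k C, π ⁻¹ᵁ U))))

omit [IsAlgClosed k] in
theorem app_inv_app {X : Scheme.{u}} {A B : X.Modules} (φ : A ≅ B) (V : X.Opens) (a : Γ(A, V)) :
    φ.inv.app V (φ.hom.app V a) = a :=
  ConcreteCategory.congr_hom (congrArg (fun ψ : A ⟶ A => ψ.app V) φ.hom_inv_id) a

theorem tq_genOn (ht : GenOn M t) : GenOn M (tq t) :=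
  TwistLib.genOn_of_genAt fun x hx => (TwistLib.genAt_app_iso (μI M) _ hx).mpr
    ((AmpleThLib.shT_genOn ht (AmpleLib.one_genOn U)).genAt hx)

theorem vX_genOn (ht : GenOn M t) : GenOn (HypSqLib.box L L) (vX eM t) :=
  TwistLib.genOn_of_genAt fun x hx => (TwistLib.genAt_app_iso (θI eM) _ hx).mpr
    ((AmpleThLib.shT_genOn (AmpleDevLib.puSec_genOn π ht) (AmpleLib.one_genOn (π ⁻¹ᵁ U))).genAt hx)

theorem up_tq : (show Γ(HypSqLib.box L L, π ⁻¹ᵁ U) from (up eM).app U (tq t)) = vX eM t := by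
  show (θI eM).hom.app (π ⁻¹ᵁ U) ((ProjFormLib.projApp π M _).app U
    (((ProjFormLib.tF M).map (ClSub.unitToPush π)).app U ((μI M).inv.app U (tq t)))) = _
  rw [tq, app_inv_app, vX]
  refine congrArg ((θI eM).hom.app (π ⁻¹ᵁ U)) ?_
  refine (congrArg ((ProjFormLib.projApp π M _).app U)
    (KFlatLib.tensorBi_map₂_shTm M (ClSub.unitToPush π) t _)).trans ?_
  refine (ProjFormLib.projApp_shTm π M (Coh.structureModule (sq k C)) t _).trans ?_
  exact congrArg (shTm (puSec π t)) (map_one (π.app U).hom)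

theorem up_smul (g : Γ(Sq, U)) : (show Γ(HypSqLib.box L L, π ⁻¹ᵁ U) from (up eM).app U (g • tq t)) =
    (π.app U).hom g • vX eM t :=
  (QCohLib.app_smul (up eM) U g (tq t)).trans (congrArg ((π.app U).hom g • ·) (up_tq eM t))

theorem down_smul (hM : PicF.IsInvertible M) (h : Γ(sq k C, π ⁻¹ᵁ U)) :
    (down hS h2 eM hM).app U (show Γ((Scheme.Modules.pushforward π).obj (HypSqLib.box L L), U) from h • vX eM t) =
      trFun hS h2 U h • tq t := by
  haveI := ProjFormLib.isIso_projApp π (E := M) (CurveVBLib.isFinLocFree_of_rank (CurvLib.locFree_of_isInvertible hM))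
    (Coh.structureModule (sq k C))
  have e1 : h • vX eM t = (θI eM).hom.app (π ⁻¹ᵁ U)
      (shTm (puSec π t) (show Γ(Coh.structureModule (sq k C), π ⁻¹ᵁ U) from h)) := by
    rw [vX, ← QCohLib.app_smul, ← DerBCLib.shTm_smul_right]
    exact congrArg _ (congrArg (shTm (puSec π t)) (mul_one h))
  show (μI M).hom.app U (((ProjFormLib.tF M).map (tr hS h2)).app U
    ((inv (ProjFormLib.projApp π M _)).app U ((θI eM).inv.app (π ⁻¹ᵁ U) (h • vX eM t)))) = _
  rw [e1, app_inv_app]
  have e2 : (inv (ProjFormLib.projApp π M (Coh.structureModule (sq k C)))).app U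
      (shTm (puSec π t) (show Γ(Coh.structureModule (sq k C), π ⁻¹ᵁ U) from h)) =
      shTm t (show Γ((Scheme.Modules.pushforward π).obj (Coh.structureModule (sq k C)), U) from h) := by
    refine (congrArg ((inv (ProjFormLib.projApp π M _)).app U)
      (ProjFormLib.projApp_shTm π M (Coh.structureModule (sq k C)) t h).symm).trans ?_
    exact ConcreteCategory.congr_hom (congrArg (fun ψ : KFlatLib.tens M ((Scheme.Modules.pushforward π).obj (Coh.structureModule (sq k C))) ⟶
        KFlatLib.tens M ((Scheme.Modules.pushforward π).obj (Coh.structureModule (sq k C))) => ψ.app U)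
      (IsIso.hom_inv_id (ProjFormLib.projApp π M (Coh.structureModule (sq k C))))) _
  refine (congrArg (fun z => (μI M).hom.app U (((ProjFormLib.tF M).map (tr hS h2)).app U z)) e2).trans ?_
  refine (congrArg ((μI M).hom.app U) (KFlatLib.tensorBi_map₂_shTm M (tr hS h2) t _)).trans ?_
  rw [tq, ← QCohLib.app_smul, ← DerBCLib.shTm_smul_right]
  exact congrArg _ (congrArg (shTm t) (mul_one (trFun hS h2 U h)).symm)

theorem res_coef_injective {X : Scheme.{u}} [IsIntegral X] {F : X.Modules} {W T : X.Opens} (hTW : T ≤ W)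
    [Nonempty T] [Nonempty W] {e : Γ(F, W)} (he : GenOn F e) {x : Γ(F, W)} (hx : res F hTW x = 0) : x = 0 := by
  obtain ⟨c, hc⟩ := (he W le_rfl).2 x
  dsimp only at hc
  rw [AmpleLib.res_refl] at hc
  have h0 : (X.presheaf.map (homOfLE hTW).op).hom c = 0 := (he T hTW).1 (by
    show (X.presheaf.map (homOfLE hTW).op).hom c • res F hTW e = (0 : Γ(X, T)) • res F hTW e
    rw [zero_smul, ← hx, ← hc, AmpleLib.res_smul])
  rw [← hc, map_injective_of_isIntegral X (homOfLE hTW) (h0.trans (map_zero _).symm), zero_smul]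

include hS h2 hdim eM in
/-- Sections of a symmetric bundle are the symmetric tensors. -/
theorem two_mul_h0 (hL : PicF.IsInvertible L) (hM : PicF.IsInvertible M) :
    2 * Module.finrank k (Coh.HH Sq M 0) =
      Module.finrank k (Coh.HH C L 0) * (Module.finrank k (Coh.HH C L 0) + 1) := by
  haveI := hS.finite
  haveI := HypSqLib.integral k C
  haveI := HypSqLib.proper_sq (k := k) (C := C)
  haveI := (HypSqLib.integral_sq (k := k) hdim).1
  haveI := CurvLib.isNoetherian k (X := C)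
  haveI := CurvLib.isNoetherian k (X := sq k C)
  haveI := (CurvLib.isCoh_of_isInvertible hL).1
  let f := C ↘ Spec (CommRingCat.of k)
  let fX := sq k C ↘ Spec (CommRingCat.of k)
  let fS := Sq ↘ Spec (CommRingCat.of k)
  let p₁ := pullback.fst f f
  let p₂ := pullback.snd f f
  have hf₂ : p₂ ≫ f = fX := pullback.condition.symm
  have hF := HypSqLib.box_inv (k := k) hL hL
  -- the chart
  obtain ⟨V₀, e₀, hηV₀, he₀⟩ := TwistLib.exists_genOn hL (genericPoint C)
  obtain ⟨V, hVa, hηV, hVV⟩ := exists_isAffineOpen_mem_and_subset (U := V₀) (x := genericPoint C) hηV₀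
  let eV := res L hVV e₀
  have heV : GenOn L eV := he₀.res _
  let W := p₁ ⁻¹ᵁ V ⊓ p₂ ⁻¹ᵁ V
  have hWs : ∀ z ∈ W, sw z ∈ W := fun z hz => ⟨by
    show (sw ≫ p₁) z ∈ V
    rw [sw_fst]; exact hz.2, by
    show (sw ≫ p₂) z ∈ V
    rw [sw_snd]; exact hz.1⟩
  let x₀ := dg (k := k) (C := C) (genericPoint C)
  have hx₀ : x₀ ∈ W := ⟨by
    show (dg ≫ p₁) (genericPoint C) ∈ V
    rw [pullback.diagonal_fst]; exact hηV, by
    show (dg ≫ p₂) (genericPoint C) ∈ V
    rw [pullback.diagonal_snd]; exact hηV⟩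
  obtain ⟨Ut, t₀, hxt, ht₀⟩ := TwistLib.exists_genOn hM (π x₀)
  obtain ⟨U, hUa, hxU, hUt, hUW⟩ := exists_affine_saturated hS hWs hx₀ hxt
  let t := res M hUt t₀
  have ht : GenOn M t := ht₀.res _
  let T := π ⁻¹ᵁ U
  haveI : Nonempty T := ⟨⟨x₀, hxU⟩⟩
  haveI : Nonempty W := ⟨⟨x₀, hx₀⟩⟩
  haveI : Nonempty U := ⟨⟨π x₀, hxU⟩⟩
  letI algT : Algebra k Γ(sq k C, T) := (secA fX T).toAlgebra
  have hTW : T ≤ W := hUW
  let εW : Γ(HypSqLib.box (k := k) L L, W) :=
    CohBCLib.prodSec _ _ W (puSecLE p₁ L inf_le_left eV) (puSecLE p₂ L inf_le_right eV)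
  have hεW : GenOn (HypSqLib.box (k := k) L L) εW :=
    AmpleThLib.shT_genOn (CubeLib.genOn_puSecLE _ heV _) (CubeLib.genOn_puSecLE _ heV _)
  let εT := res _ hTW εW
  have hεT : GenOn _ εT := hεW.res hTW
  obtain ⟨u, hu⟩ := (hεT T le_rfl).2 (vX eM t)
  dsimp only at hu
  rw [AmpleLib.res_refl] at hu
  have hv := vX_genOn eM t ht
  obtain ⟨u', hu'⟩ := (hv T le_rfl).2 εT
  dsimp only at hu'
  rw [AmpleLib.res_refl] at hu'
  have huu : u' * u = 1 := (hεT T le_rfl).1 (by
    simp only [AmpleLib.res_refl]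
    rw [one_smul, mul_smul, hu, hu'])
  -- coefficient of a section of `L`
  have cex : ∀ s : Sec f L ⊤, ∃ c : Γ(C, V), c • eV = res L le_top (show Γ(L, ⊤) from s) := fun s => by
    obtain ⟨c, hc⟩ := (heV V le_rfl).2 (res L le_top (show Γ(L, ⊤) from s))
    exact ⟨c, by simpa only [AmpleLib.res_refl] using hc⟩
  choose cV hcV using cex
  have hle₁ : T ≤ p₁ ⁻¹ᵁ V := hTW.trans inf_le_left
  have hle₂ : T ≤ p₂ ⁻¹ᵁ V := hTW.trans inf_le_right
  let P₁ := (p₁.appLE V T hle₁).hom
  let P₂ := (p₂.appLE V T hle₂).hom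
  -- restriction of box sections
  let G : Sec f L ⊤ ⊗[k] Sec f L ⊤ →ₗ[k] Sec fX (HypSqLib.box L L) ⊤ := KunnethDiagLib.boxSec (f₁ := f) (f₂ := f) (f := fX) (p₁ := p₁) (p₂ := p₂) rfl hf₂ L L ⊤ ⊤ ⊤ le_top le_top
  let rT : Sec fX (HypSqLib.box L L) ⊤ →ₗ[k] Sec fX (HypSqLib.box L L) T := rsA fX _ le_top
  have coefT : ∀ x : Sec fX (HypSqLib.box L L) T, ∃ c : Γ(sq k C, T), c • εT = (show Γ(HypSqLib.box (k := k) L L, T) from x) :=
    fun x => by
      obtain ⟨c, hc⟩ := (hεT T le_rfl).2 (show Γ(HypSqLib.box (k := k) L L, T) from x)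
      exact ⟨c, by simpa only [AmpleLib.res_refl] using hc⟩
  choose cT hcT using coefT
  have cancel : ∀ {a b : Γ(sq k C, T)}, a • εT = b • εT → a = b := fun {a b} h =>
    (hεT T le_rfl).1 (by simpa only [AmpleLib.res_refl] using h)
  let Φ : Sec f L ⊤ ⊗[k] Sec f L ⊤ →ₗ[k] Γ(sq k C, T) :=
    { toFun := fun a => cT (rT (G a))
      map_add' := fun a b => cancel (by rw [hcT, add_smul, hcT, hcT, map_add G]; exact rT.map_add (G a) (G b))
      map_smul' := fun r a => cancel (by
        rw [hcT, map_smul G, RingHom.id_apply, Algebra.smul_def, mul_smul, hcT]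
        exact rT.map_smul r (G a)) }
  have hΦ : ∀ a, Φ a • εT = (show Γ(HypSqLib.box (k := k) L L, T) from rT (G a)) := fun a => hcT _
  have hΦt : ∀ s s' : Sec f L ⊤, Φ (s ⊗ₜ[k] s') = P₁ (cV s) * P₂ (cV s') := fun s s' => by
    refine cancel ((hΦ _).trans ?_)
    show res _ le_top (AmpleLib.shT (puSecLE p₁ L le_top (show Γ(L, ⊤) from s)) (puSecLE p₂ L le_top (show Γ(L, ⊤) from s'))) = _
    rw [AmpleLib.shT_res,
      show res _ le_top (puSecLE p₁ L le_top (show Γ(L, ⊤) from s)) = puSecLE p₁ L hle₁ (res L le_top (show Γ(L, ⊤) from s)) from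
        KunnethDiagLib.puSecLE_res p₁ L le_top le_top le_top hle₁ _,
      show res _ le_top (puSecLE p₂ L le_top (show Γ(L, ⊤) from s')) = puSecLE p₂ L hle₂ (res L le_top (show Γ(L, ⊤) from s')) from
        KunnethDiagLib.puSecLE_res p₂ L le_top le_top le_top hle₂ _,
      ← hcV, ← hcV, KFlatLib.puSecLE_smul, KFlatLib.puSecLE_smul, AmpleLib.shT_smul]
    refine congrArg (fun z => (P₁ (cV s) * P₂ (cV s')) • z) ?_
    show _ = res _ hTW (AmpleLib.shT _ _)
    rw [AmpleLib.shT_res]
    exact congrArg₂ AmpleLib.shT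
      ((congrArg (puSecLE p₁ L hle₁) (AmpleLib.res_refl L eV)).symm.trans
        (KunnethDiagLib.puSecLE_res p₁ L le_rfl hTW inf_le_left hle₁ eV).symm)
      ((congrArg (puSecLE p₂ L hle₂) (AmpleLib.res_refl L eV)).symm.trans
        (KunnethDiagLib.puSecLE_res p₂ L le_rfl hTW inf_le_right hle₂ eV).symm)
  have swP : ∀ c : Γ(C, V), swA hS.inv U (P₁ c) = P₂ c ∧ swA hS.inv U (P₂ c) = P₁ c := by
    have key : ∀ (a b : sq k C ⟶ C) (ha : T ≤ a ⁻¹ᵁ V) (hb : T ≤ b ⁻¹ᵁ V), sw ≫ a = b → ∀ c : Γ(C, V),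
        swA hS.inv U ((a.appLE V T ha).hom c) = (b.appLE V T hb).hom c := by
      rintro a b ha hb rfl c
      show (a.appLE V T ha ≫ sw.appLE T T _).hom c = _
      rw [Scheme.Hom.appLE_comp_appLE]
    exact fun c => ⟨key p₁ p₂ hle₁ hle₂ sw_fst c, key p₂ p₁ hle₂ hle₁ sw_snd c⟩
  let cm := (TensorProduct.comm k (Sec f L ⊤) (Sec f L ⊤)).toLinearMap
  have hsw : ∀ a, swA hS.inv U (Φ a) = Φ (cm a) := fun a => by
    induction a using TensorProduct.induction_on with
    | zero => simp
    | tmul s s' =>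
      show swA hS.inv U (Φ (s ⊗ₜ[k] s')) = Φ (s' ⊗ₜ[k] s)
      rw [hΦt, hΦt, map_mul, (swP _).1, (swP _).2, mul_comm]
    | add x y hx hy => simp only [map_add, hx, hy]
  -- injectivity
  have hinjG : ∀ a, Φ a = 0 → a = 0 := fun a ha => by
    have hsq := KunnethDiagLib.boxSec_natural (f₁ := f) (f₂ := f) (f := fX) (p₁ := p₁) (p₂ := p₂) rfl hf₂ L L
      (a := ⊤) (a' := V) (b := ⊤) (b' := V) (w := ⊤) (w' := W) le_top le_top inf_le_left inf_le_right le_top le_top le_top a
    have h0 : res _ hTW (show Γ(HypSqLib.box (k := k) L L, W) from rsA fX _ (le_top : W ≤ ⊤) (G a)) = 0 := by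
      have h := hΦ a
      rw [ha, zero_smul] at h
      exact (AmpleLib.res_res _ _ _ _).trans h.symm
    have hW0 : rsA fX _ (le_top : W ≤ ⊤) (G a) = 0 := res_coef_injective hTW hεW h0
    have h1 := hsq.symm.trans hW0
    have hb := (KunnethDiagLib.boxSec_bijective (f₁ := f) (f₂ := f) (f := fX) (p₁ := p₁) (p₂ := p₂) rfl hf₂ L L
      (IsPullback.of_hasPullback f f) hVa hVa (w := W) rfl inf_le_left inf_le_right).1
    have h2' := hb (h1.trans (map_zero _).symm)
    have hrinj : Function.Injective (rsA f L (le_top : V ≤ ⊤)) := fun s s' h => by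
      refine sub_eq_zero.1 ?_
      exact HypSqLib.res_eq_zero hL ⟨_, hηV⟩
        (show res L (le_top : V ≤ ⊤) (show Γ(L, ⊤) from s - s') = 0 from ((rsA f L le_top).map_sub s s').trans (sub_eq_zero.2 h))
    refine TensorProduct.map_injective_of_flat_flat _ _ hrinj hrinj (h2'.trans (map_zero _).symm)
  have hΦinj : Function.Injective Φ := fun a b h => sub_eq_zero.1 (hinjG _ (by rw [map_sub, h, sub_self]))
  -- dimensions
  have hLc := CurvLib.isCoh_of_isInvertible hL
  haveI hfin : Module.Finite k (Coh.HH C L 0) := CurvLib.finite_HH (k := k) hLc 0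
  have dH : Module.finrank k (Sec f L ⊤) = Module.finrank k (Coh.HH C L 0) := (finrank_sec L).symm
  have dF : Module.finrank k (Sec fX (HypSqLib.box L L) ⊤) =
      Module.finrank k (Sec f L ⊤) * Module.finrank k (Sec f L ⊤) := by
    rw [dH]
    exact (finrank_sec (HypSqLib.box (k := k) L L)).symm.trans (HypSqLib.hh_box hdim hLc hLc).1
  rcases Nat.eq_zero_or_pos (Module.finrank k (Coh.HH C L 0)) with hn | hn
  · have h := h_le hS h2 hdim hM 0
    rw [(CurvLib.hIso (k := k) eM 0).finrank_eq, (HypSqLib.hh_box hdim hLc hLc).1, hn] at h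
    rw [hn]; omega
  haveI hfH : FiniteDimensional k (Sec f L ⊤) := Module.finite_of_finrank_pos (dH ▸ hn)
  haveI : Nontrivial (Sec f L ⊤) := Module.nontrivial_of_finrank_pos (R := k) (dH ▸ hn)
  haveI : FiniteDimensional k (Sec fX (HypSqLib.box L L) ⊤) :=
    Module.finite_of_finrank_pos (by rw [dF, dH]; positivity)
  have hGinj : Function.Injective G := fun a b h => hΦinj (cancel (by rw [hΦ, hΦ, h]))
  have hGsurj : Function.Surjective G :=
    (LinearMap.injective_iff_surjective_of_finrank_eq_finrank (by rw [dF, Module.finrank_tensorProduct])).1 hGinj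
  -- the linearisation is the natural one
  have coef_down : ∀ x : Γ(HypSqLib.box (k := k) L L, ⊤), ∀ h : Γ(sq k C, T),
      res _ le_top x = h • vX eM t →
      res _ (le_top : T ≤ ⊤) (show Γ(HypSqLib.box (k := k) L L, ⊤) from
        (up eM).app ⊤ ((down hS h2 eM hM).app ⊤ x)) = (π.app U).hom (trFun hS h2 U h) • vX eM t := by
    intro x h hx
    refine ((QCohLib.app_map (up eM) (homOfLE le_top) _).symm.trans ?_)
    refine (congrArg ((up eM).app U) ((QCohLib.app_map (down hS h2 eM hM) (homOfLE le_top) x).symm.trans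
      ((congrArg ((down hS h2 eM hM).app U) hx).trans (down_smul hS h2 eM t hM h)))).trans ?_
    exact up_smul eM t _
  have hcoef : ∀ a, res _ (le_top : T ≤ ⊤) (show Γ(HypSqLib.box (k := k) L L, ⊤) from G a) = (Φ a * u') • vX eM t := by
    intro a
    rw [mul_smul, hu']
    exact (hΦ a).symm
  have cancelv : ∀ {a b : Γ(sq k C, T)}, a • vX eM t = b • vX eM t → a = b := fun {a b} h =>
    (hv T le_rfl).1 (by simpa only [AmpleLib.res_refl] using h)
  have hdown : ∀ a, ∃ b, Φ b * u' = (π.app U).hom (trFun hS h2 U (Φ a * u')) := fun a => by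
    obtain ⟨b, hb⟩ := hGsurj ((up eM).app ⊤ ((down hS h2 eM hM).app ⊤ (show Γ(HypSqLib.box (k := k) L L, ⊤) from G a)))
    refine ⟨b, cancelv ((hcoef b).symm.trans ?_)⟩
    rw [hb]
    exact coef_down _ _ (hcoef a)
  have hstab : ∀ a, ∃ b, (swA hS.inv U u' * u) * Φ a = Φ b := fun a => by
    obtain ⟨b, hb⟩ := hdown (cm a)
    refine ⟨b + b - cm a, ?_⟩
    have hs := trFun_spec hS h2 U (Φ (cm a) * u')
    rw [← hb, map_mul, hsw, show cm (cm a) = a from (TensorProduct.comm k _ _).apply_symm_apply a ▸ by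
      simp [cm]] at hs
    rw [map_sub, map_add]
    linear_combination (norm := ring_nf) (-u) * hs + (Φ b * 2 - Φ (cm a)) * huu
  obtain ⟨c, hc⟩ := exists_eq_const Φ hΦinj _ hstab
  have hswu : swA hS.inv U u' = u' := by
    haveI : Nonempty (dg (k := k) (C := C) ⁻¹ᵁ T) := ⟨⟨genericPoint C, hxU⟩⟩
    have h1 : swA hS.inv U u' = algebraMap k _ c * u' := by
      rw [← hc]; linear_combination (norm := ring_nf) (-(swA hS.inv U u')) * huu
    have h3 := dg_swA hS U u'
    rw [h1, map_mul] at h3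
    have hune : (dg.app T).hom u' ≠ 0 := fun h => one_ne_zero (α := Γ(C, dg ⁻¹ᵁ T))
      (by rw [← map_one (dg.app T).hom, ← huu, map_mul, h, zero_mul])
    have hc1 : (dg.app T).hom (algebraMap k Γ(sq k C, T) c) = 1 :=
      mul_right_cancel₀ hune (h3.trans (one_mul _).symm)
    have : c = 1 := ((dg.app T).hom.comp (algebraMap k Γ(sq k C, T))).injective (hc1.trans (map_one _).symm)
    rw [h1, this, map_one, one_mul]
  -- the sections are the symmetric tensors
  let S₀ := LinearMap.ker (cm - LinearMap.id)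
  have hmem : ∀ a, a ∈ S₀ ↔ swA hS.inv U (Φ a * u') = Φ a * u' := fun a => by
    rw [LinearMap.mem_ker, LinearMap.sub_apply, sub_eq_zero, LinearMap.id_apply, map_mul, hswu, hsw]
    exact ⟨fun h => by rw [h], fun h => hΦinj (mul_right_cancel₀ (left_ne_zero_of_mul_eq_one huu) h)⟩
  let upL : Sec fS M ⊤ →ₗ[k] Sec fX (HypSqLib.box L L) ⊤ :=
    { toFun := fun m => (show Γ(HypSqLib.box (k := k) L L, ⊤) from (up eM).app ⊤ (show Γ(M, ⊤) from m))
      map_add' := fun a b => map_add ((up eM).app ⊤).hom a b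
      map_smul' := fun r m => by
        show (up eM).app ⊤ (secA fS ⊤ r • (show Γ(M, ⊤) from m)) = _
        rw [QCohLib.app_smul]
        show (π.app ⊤).hom (secA fS ⊤ r) • (show Γ(HypSqLib.box (k := k) L L, π ⁻¹ᵁ ⊤) from (up eM).app ⊤ (show Γ(M, ⊤) from m)) =
          secA fX ⊤ r • (show Γ(HypSqLib.box (k := k) L L, ⊤) from (up eM).app ⊤ (show Γ(M, ⊤) from m))
        rw [Scheme.Hom.app_eq_appLE, KunnethDiagLib.secA_comp π fS fX hS.hover ⊤ _ _ r]
        rfl }
  have hupinj : Function.Injective upL := fun a b h => by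
    have hid : up eM ≫ down hS h2 eM hM = 𝟙 M := by
      simp only [up, down, Category.assoc, ← (Scheme.Modules.pushforward π).map_comp_assoc, Iso.hom_inv_id,
        CategoryTheory.Functor.map_id, Category.id_comp, IsIso.hom_inv_id_assoc]
      rw [← Functor.map_comp_assoc, unit_tr, CategoryTheory.Functor.map_id]
      simp
    have := congrArg ((down hS h2 eM hM).app ⊤) h
    have hh : ∀ m : Γ(M, ⊤), (down hS h2 eM hM).app ⊤ ((up eM).app ⊤ m) = m := fun m =>
      ConcreteCategory.congr_hom (congrArg (fun ψ : M ⟶ M => ψ.app ⊤) hid) m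
    exact (hh a).symm.trans (this.trans (hh b))
  have hrange : LinearMap.range upL = S₀.map G := by
    apply le_antisymm
    · rintro _ ⟨m, rfl⟩
      obtain ⟨a, ha⟩ := hGsurj (upL m)
      refine ⟨a, ?_, ha⟩
      obtain ⟨g, hg⟩ := ((tq_genOn t ht) U le_rfl).2 (res M le_top (show Γ(M, ⊤) from m))
      dsimp only at hg
      rw [AmpleLib.res_refl] at hg
      refine (hmem a).2 ?_
      have : Φ a * u' = (π.app U).hom g := cancelv ((hcoef a).symm.trans (by
        rw [ha]
        refine ((QCohLib.app_map (up eM) (homOfLE le_top) (show Γ(M, ⊤) from m)).symm.trans ?_)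
        exact (congrArg ((up eM).app U) hg.symm).trans (up_smul eM t g)))
      rw [this, swA_app hS]
    · rintro _ ⟨a, ha, rfl⟩
      refine ⟨(down hS h2 eM hM).app ⊤ (show Γ(HypSqLib.box (k := k) L L, ⊤) from G a), ?_⟩
      obtain ⟨b, hb⟩ := hGsurj (upL ((down hS h2 eM hM).app ⊤ (show Γ(HypSqLib.box (k := k) L L, ⊤) from G a)))
      refine hb.symm.trans (congrArg G (hΦinj (mul_right_cancel₀ (left_ne_zero_of_mul_eq_one huu) ?_)))
      refine cancelv ((hcoef b).symm.trans ?_)
      rw [hb]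
      refine (coef_down _ _ (hcoef a)).trans (congrArg (· • vX eM t) ?_)
      exact (isUnit_two h2 fX T).mul_left_inj.1
        ((trFun_spec hS h2 U _).trans (by rw [(hmem a).1 ha, mul_two]))
  rw [finrank_sec M, ← dH, ← two_mul_finrank_symm (k := k) (H := Sec f L ⊤),
    ← LinearMap.finrank_range_of_inj hupinj, hrange]
  exact congrArg (2 * ·) (Submodule.equivMapOfInjective G hGinj S₀).finrank_eq.symm

end SymSqLib
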