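import Groth.Agent.SymSqLib.Nabla
import Groth.Agent.SymSqLib.Sym
import Groth.Agent.SymSqLib.Euler

/-! Euler characteristics and vanishing on the symmetric square of a hyperelliptic curve. -/

set_option autoImplicit false
set_option linter.style.haveILetI false
set_option linter.unusedSectionVars false
set_option maxHeartbeats 1000000

universe u

open CategoryTheory CategoryTheory.Limits AlgebraicGeometry Opposite
open KFlatLib (pb)
open HypSqLib (sq)
open HilbPolyLib (congrLeft congrRight assocIso swapIso unitLeft)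

noncomputable section

namespace SymSqLib

section Split

variable {k : Type u} [Field k] {X : Scheme.{u}} [X.Over (Spec (CommRingCat.of k))]
  [IsProper (X ↘ Spec (CommRingCat.of k))] {S : ShortComplex X.Modules}

/-- A split epimorphism in a short exact sequence splits cohomology. -/
theorem finrank_of_section (hS : S.ShortExact) (h₂ : Coh.IsCoh S.X₂) (s : S.X₃ ⟶ S.X₂) (hs : s ≫ S.g = 𝟙 _)
    (n : ℕ) : Module.finrank k (Coh.HH X S.X₂ n) =
      Module.finrank k (Coh.HH X S.X₁ n) + Module.finrank k (Coh.HH X S.X₃ n) := by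
  haveI := CurvLib.isNoetherian k (X := X)
  haveI := CurvLib.finite_HH (k := k) h₂ n
  have surj : ∀ m, LinearMap.range (CurvLib.hMap (k := k) S.g m) = ⊤ := fun m =>
    LinearMap.range_eq_top.2 fun y => ⟨CurvLib.hMap (k := k) s m y, by
      rw [← CurvLib.hMap_comp, hs, CurvLib.hMap_apply, CategoryTheory.Functor.map_id, Sheaf.H.map_id_apply]⟩
  have inj : ∀ m, Function.Injective (CurvLib.hMap (k := k) S.f m)
    | 0 => CurvLib.injective₀ (k := k) hS
    | m + 1 => by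
      have h := (CurvLib.exact₃ (k := k) hS m).symm.trans (surj m)
      rw [← LinearMap.ker_eq_bot, ← CurvLib.exact₁ (k := k) hS m, LinearMap.range_eq_bot, ← LinearMap.ker_eq_top, h]
  rw [← LinearMap.finrank_range_add_finrank_ker (CurvLib.hMap (k := k) S.g n), surj, finrank_top,
    ← CurvLib.exact₂ (k := k) hS n, LinearMap.finrank_range_of_inj (inj n), add_comm]

end Split

attribute [local instance] HypSqLib.overSq

variable {k : Type u} [Field k] [IsAlgClosed k] {C : Scheme.{u}} [C.Over (Spec (CommRingCat.of k))]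
  [IsProper (C ↘ Spec (CommRingCat.of k))] [Smooth (C ↘ Spec (CommRingCat.of k))] [ConnectedSpace C]
  {Sq : Scheme.{u}} [Sq.Over (Spec (CommRingCat.of k))] {π : sq k C ⟶ Sq}
  (hS : IsSym π (Sq ↘ Spec (CommRingCat.of k))) (h2 : (2 : k) ≠ 0) (hdim : topologicalKrullDim C = 1)
  {M : Sq.Modules} (hM : PicF.IsInvertible M)

include hS h2 hdim hM in
theorem hh_split (n : ℕ) : Module.finrank k (Coh.HH (sq k C) (pb π M) n) =
    Module.finrank k (Coh.HH Sq M n) + Module.finrank k (Coh.HH Sq (CohB1.tensorMod M (E hS h2)) n) := by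
  haveI := hS.proper
  obtain ⟨-, b, -⟩ := coh_twSeq hS h2 hdim hM
  have h := finrank_of_section (k := k) (twSeq_shortExact hS h2 hM) b
    ((CurvLib.tensorLeft' M).map (ClSub.unitToPush π))
    (((CurvLib.tensorLeft' M).map_comp _ _).symm.trans ((congrArg _ (unit_tr hS h2)).trans ((CurvLib.tensorLeft' M).map_id _))) n
  have x1 : (twSeq hS h2 M).X₁ = CohB1.tensorMod M (E hS h2) := rfl
  have x2 : (twSeq hS h2 M).X₂ = CohB1.tensorMod M (pO π) := rfl
  have x3 : (twSeq hS h2 M).X₃ = CohB1.tensorMod M (Coh.structureModule Sq) := rfl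
  rw [x1, x2, x3, hh_push hS hM n,
    (CurvLib.hIso (k := k) (swapIso M (Coh.structureModule Sq) ≪≫ unitLeft M) n).finrank_eq] at h
  rw [h, add_comm]

include hS hdim in
theorem euler_three (T : Sq.Modules) : Curv2.euler k Sq T =
    (Module.finrank k (Coh.HH Sq T 0) : ℤ) - Module.finrank k (Coh.HH Sq T 1) +
      Module.finrank k (Coh.HH Sq T 2) := by
  haveI := hS.proper
  exact SurfNumLib.euler_eq_three (k := k) (proper_dim hS hdim).1

variable {g : ℕ} (hg : 2 ≤ g) (hgen : Curv2.genus k C = g) (κ : C ⟶ CohB1.ProjSpace 1 k)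
  (hκ : κ ≫ CohB1.ProjSpace.toSpec 1 k = C ↘ Spec (CommRingCat.of k)) [IsFinite κ] [Flat κ]
  (hκ2 : ∀ y : ↥(CohB1.ProjSpace 1 k), κ.finrank y = 2)
  (σ : C ⟶ C) (hσp : σ ≫ (C ↘ Spec (CommRingCat.of k)) = C ↘ Spec (CommRingCat.of k))
  (hσ : σ ≫ κ = κ) (hσ1 : σ ≠ 𝟙 C)

include hdim hgen in
theorem euler_unit_sq : Curv2.euler k (sq k C) (Coh.structureModule (sq k C)) = ((g : ℤ) - 1) ^ 2 := by
  have hO := CurvLib.isCoh_of_isInvertible (CurvLib.isInvertible_structureModule (X := C))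
  haveI := CurvLib.isNoetherian k (X := C)
  rw [← CurvLib.euler_congr (k := k) ((congrLeft (KFlatLib.pullUnitIso
      (pullback.fst (C ↘ Spec (CommRingCat.of k)) (C ↘ Spec (CommRingCat.of k)))) _ ≪≫
      congrRight _ (KFlatLib.pullUnitIso _)) ≪≫ unitLeft _),
    show CohB1.tensorMod _ _ = HypSqLib.box (k := k) (Coh.structureModule C) (Coh.structureModule C) from rfl,
    HypSqLib.euler_box hdim hO hO, HypSqLib.euler_structure hdim, hgen]
  ring

include hS h2 hdim hgen hM in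
/-- Euler characteristics through the double cover. -/
theorem euler_formula : 4 * (Curv2.euler k Sq M - Curv2.euler k Sq (Coh.structureModule Sq)) =
    2 * (Curv2.euler k (sq k C) (pb π M) - ((g : ℤ) - 1) ^ 2) +
      Curv2.deg k C (pb (HypSqLib.gr (k := k) (𝟙 C) HypSqLib.id_over) (pb π M)) 1 := by
  haveI := HypSqLib.integral k C
  have e : HodgeIdxLib.pr k (ClSub.idealMod (dg (k := k) (C := C)).ker) (pb π M) =
      -Curv2.deg k C (pb (HypSqLib.gr (k := k) (𝟙 C) HypSqLib.id_over) (pb π M)) 1 :=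
    HypSqLib.pr_ideal_gr (𝟙 C) HypSqLib.id_over hdim (AmpleDevLib.isInvertible_pb π hM)
  rw [euler_diff hS h2 hdim hM, euler_unit_sq hdim hgen, e, sub_neg_eq_add]

include hdim hg hgen hκ hκ2 hσp hσ hσ1 hS h2 in
/-- The Euler characteristic of the structure sheaf. -/
theorem euler_O : 2 * Curv2.euler k Sq (Coh.structureModule Sq) = ((g : ℤ) - 1) * ((g : ℤ) - 2) := by
  haveI := hS.proper
  haveI := HypSqLib.integral k C
  haveI := CurvLib.isNoetherian k (X := C)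
  obtain ⟨M, hM, ⟨e⟩⟩ := exists_Fm hdim hg hgen κ hκ hκ2 σ hσp hσ hσ1 hS h2 g
  have hL := HypSqLib.pow_inv (k := k) hdim κ hκ hκ2 g
  have hb := HypSqLib.hh_box (k := k) hdim (CurvLib.isCoh_of_isInvertible hL) (CurvLib.isCoh_of_isInvertible hL)
  haveI := HypSqLib.h1_big hdim hgen κ hκ hκ2 (le_refl g)
  have z : Module.finrank k (Coh.HH C (CohB1.tensorPow (HypSqLib.Lκ κ) g) 1) = 0 := Module.finrank_zero_of_subsingleton
  have h1 : Module.finrank k (Coh.HH Sq M 1) = 0 := Nat.le_zero.1 ((h_le hS h2 hdim hM 1).trans (by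
    rw [(CurvLib.hIso (k := k) e 1).finrank_eq, hb.2.1, z]; simp))
  have h2' : Module.finrank k (Coh.HH Sq M 2) = 0 := Nat.le_zero.1 ((h_le hS h2 hdim hM 2).trans (by
    rw [(CurvLib.hIso (k := k) e 2).finrank_eq, hb.2.2, z]))
  have h0 := congrArg (fun n : ℕ => (n : ℤ)) (two_mul_h0 hS h2 hdim e hL hM)
  push_cast at h0
  rw [HypSqLib.hh0_big hdim hgen κ hκ hκ2 (le_refl g)] at h0
  have h := euler_formula hS h2 hdim hM hgen
  rw [euler_three hS hdim, h1, h2', CurvLib.euler_congr (k := k) e,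
    CurvLib.deg_congr (k := k) ((Scheme.Modules.pullback (HypSqLib.gr (k := k) (𝟙 C) HypSqLib.id_over)).mapIso e),
    HypSqLib.euler_Fm hdim hg hgen κ hκ hκ2 g,
    HypSqLib.deg_pb_Fm hdim κ hκ hκ2 (𝟙 C) HypSqLib.id_over (Category.id_comp κ) g] at h
  push_cast at h
  linarith

include hdim hg hgen hκ hκ2 hσp hσ hσ1 hS h2 hM in
/-- The Euler characteristic of an invertible module on the symmetric square. -/
theorem euler_M : 4 * Curv2.euler k Sq M = 2 * ((g : ℤ) - 1) * ((g : ℤ) - 2) +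
    2 * (Curv2.euler k (sq k C) (pb π M) - ((g : ℤ) - 1) ^ 2) +
      Curv2.deg k C (pb (HypSqLib.gr (k := k) (𝟙 C) HypSqLib.id_over) (pb π M)) 1 := by
  have h := euler_formula hS h2 hdim hM hgen
  have h' := euler_O hS h2 hdim hg hgen κ hκ hκ2 σ hσp hσ hσ1
  linarith

variable (N : (sq k C).Modules) (hN : PicF.IsInvertible N)
  (hNinv : ClSub.IsInverseOf N (ClSub.idealMod (HypSqLib.gr σ hσp).ker))

include hdim hg hgen hκ hκ2 hσp hσ hσ1 h2 hN hNinv in
/-- The graph of the involution meets the diagonal `2g + 2` times. -/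
theorem deg_diag_N : Curv2.deg k C (pb (HypSqLib.gr (k := k) (𝟙 C) HypSqLib.id_over) N) 1 = 2 * (g : ℤ) + 2 := by
  haveI := HypSqLib.proper_sq (k := k) (C := C)
  haveI := HypSqLib.integral k C
  haveI := CurvLib.isNoetherian k (X := C)
  have hI := HypSqLib.ideal_inv (k := k) (𝟙 C) HypSqLib.id_over hdim
  obtain ⟨d⟩ := MiscFlat6.nonempty_dualIso hI
  have hD := MiscFlat6.dual_isInvertible hI
  have hDinv : ClSub.IsInverseOf (MiscFlat6.dual (ClSub.idealMod (HypSqLib.gr (k := k) (𝟙 C) HypSqLib.id_over).ker))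
      (ClSub.idealMod (HypSqLib.gr (k := k) (𝟙 C) HypSqLib.id_over).ker) := ⟨swapIso _ _ ≪≫ d⟩
  obtain ⟨e⟩ := HypSqLib.diag_add_graph hdim hg hgen κ hκ hκ2 σ hσp h2 hσ hσ1 hNinv hDinv
  set D := MiscFlat6.dual (ClSub.idealMod (HypSqLib.gr (k := k) (𝟙 C) HypSqLib.id_over).ker)
  obtain ⟨eL⟩ := HypSqLib.pb_Lκ κ hσ
  have hd : Curv2.deg k C (pb (HypSqLib.gr σ hσp) D) 1 +
      Curv2.deg k C (pb (HypSqLib.gr σ hσp) N) 1 = 4 := by
    rw [← HypSqLib.deg_add hdim (AmpleDevLib.isInvertible_pb _ hD) (AmpleDevLib.isInvertible_pb _ hN),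
      ← CurvLib.deg_congr (k := k) (PicPnLib.pullTens (HypSqLib.gr σ hσp) D N),
      CurvLib.deg_congr (k := k) ((Scheme.Modules.pullback (HypSqLib.gr σ hσp)).mapIso e ≪≫
        HypSqLib.pbBox σ hσp _ _ ≪≫ HilbPolyLib.congrRight _ eL),
      HypSqLib.deg_add hdim (HypSqLib.pencil (k := k) hdim κ hκ hκ2).1 (HypSqLib.pencil (k := k) hdim κ hκ hκ2).1,
      (HypSqLib.pencil (k := k) hdim κ hκ hκ2).2.1]
    norm_num
  rw [HypSqLib.deg_pb_N σ hσp hdim hg hgen κ hκ hκ2 N hN hNinv hσ] at hd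
  have a := HypSqLib.pr_N (𝟙 C) HypSqLib.id_over hdim _ hD hDinv hN
  rw [HodgeIdxLib.pr_comm, HypSqLib.pr_N σ hσp hdim N hN hNinv hD] at a
  linarith

include hdim hg hgen hκ hκ2 hσp hσ hσ1 h2 hN hNinv in
theorem deg_diag_tw {B : (sq k C).Modules} (hB : PicF.IsInvertible B) (r : ℕ) :
    Curv2.deg k C (pb (HypSqLib.gr (k := k) (𝟙 C) HypSqLib.id_over) (HypSqLib.Tw N B r)) 1 =
      Curv2.deg k C (pb (HypSqLib.gr (k := k) (𝟙 C) HypSqLib.id_over) B) 1 + r * (2 * (g : ℤ) + 2) := by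
  haveI := HypSqLib.integral k C
  obtain ⟨e⟩ := CurveDualLib.nonempty_pb_tensorPow (HypSqLib.gr (k := k) (𝟙 C) HypSqLib.id_over) N r
  rw [CurvLib.deg_congr (k := k) (PicPnLib.pullTens (HypSqLib.gr (k := k) (𝟙 C) HypSqLib.id_over) B _),
    HypSqLib.deg_add hdim (AmpleDevLib.isInvertible_pb _ hB)
      (AmpleDevLib.isInvertible_pb _ (AmpleThLib.tensorPow_isInvertible hN r)),
    CurvLib.deg_congr (k := k) e, HypSqLib.deg_pow hdim (AmpleDevLib.isInvertible_pb _ hN),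
    deg_diag_N h2 hdim hg hgen κ hκ hκ2 σ hσp hσ hσ1 N hN hNinv]

include hdim hg hgen hκ hκ2 hσp hσ hσ1 hS h2 hN hNinv hM in
/-- Euler characteristic of the classes `2mΘ + r∇`. -/
theorem euler_Fm_tw {m r : ℕ} (e : pb π M ≅ HypSqLib.Tw N (HypSqLib.Fm κ m) r) :
    2 * Curv2.euler k Sq M = (2 * (m : ℤ) - ((g : ℤ) - 1) + 1) * (2 * (m : ℤ) - ((g : ℤ) - 1)) +
      2 * (r : ℤ) * (2 * m + 1) - ((g : ℤ) - 1) * r * (r + 1) := by
  have h := euler_M hS h2 hdim hM hg hgen κ hκ hκ2 σ hσp hσ hσ1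
  rw [CurvLib.euler_congr (k := k) e,
    CurvLib.deg_congr (k := k) ((Scheme.Modules.pullback (HypSqLib.gr (k := k) (𝟙 C) HypSqLib.id_over)).mapIso e),
    HypSqLib.euler_tw hdim hg hgen κ hκ hκ2 σ hσp N hN hNinv hσ,
    deg_diag_tw h2 hdim hg hgen κ hκ hκ2 σ hσp hσ hσ1 N hN hNinv (HypSqLib.Fm_inv (k := k) hdim κ hκ hκ2 m),
    HypSqLib.deg_pb_Fm hdim κ hκ hκ2 (𝟙 C) HypSqLib.id_over (Category.id_comp κ) m] at h
  linarith

include hdim hg hgen hκ hκ2 hσp hσ hS h2 hN hNinv hM in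
/-- The second cohomology of `2mΘ + r∇` vanishes. -/
theorem h2_vanish {m r : ℕ} (hm : g ≤ m) (e : pb π M ≅ HypSqLib.Tw N (HypSqLib.Fm κ m) r) :
    Module.finrank k (Coh.HH Sq M 2) = 0 := by
  refine Nat.le_zero.1 ((h_le hS h2 hdim hM 2).trans (le_of_eq ?_))
  rw [(CurvLib.hIso (k := k) e 2).finrank_eq]
  exact HypSqLib.tw_h2 hdim hg hgen κ hκ hκ2 σ hσp N hN hNinv hσ hm r

include hdim hg hgen hκ hκ2 hσp hσ hσ1 hS h2 hN hNinv hM in
/-- The first cohomology of `2mΘ + r∇` vanishes. -/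
theorem h1_vanish {m r : ℕ} (hm : g ≤ m) (hr : ((g : ℤ) - 1) * r < 2 * m)
    (e : pb π M ≅ HypSqLib.Tw N (HypSqLib.Fm κ m) r) : Module.finrank k (Coh.HH Sq M 1) = 0 := by
  haveI := hS.proper
  haveI := CurvLib.isNoetherian k (X := Sq)
  haveI := HypSqLib.proper_sq (k := k) (C := C)
  by_cases hlt : ((g : ℤ) - 1) * (r + 1) < 2 * m
  · refine Nat.le_zero.1 ((h_le hS h2 hdim hM 1).trans (le_of_eq ?_))
    rw [(CurvLib.hIso (k := k) e 1).finrank_eq]
    exact HypSqLib.tw_h1 hdim hg hgen κ hκ hκ2 σ hσp N hN hNinv hσ hm r hlt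
  rw [not_lt] at hlt
  obtain _ | r := r
  · push_cast at hlt; omega
  obtain ⟨J, -, hJ, ⟨eJ⟩⟩ := exists_nabla hdim hg hgen κ hκ hκ2 σ hσp hσ hσ1 hS h2
  obtain ⟨st⟩ := HypSqLib.tw_step σ hσp N hNinv (B := HypSqLib.Fm κ m) r
  let M' := CohB1.tensorMod M (ClSub.idealMod J)
  have hM' : PicF.IsInvertible M' := HilbPolyLib.isInvertible_tensor hM hJ
  let e' : pb π M' ≅ HypSqLib.Tw N (HypSqLib.Fm κ m) r :=
    PicPnLib.pullTens π M (ClSub.idealMod J) ≪≫ congrLeft e _ ≪≫ congrRight _ eJ ≪≫ st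
  have hE := E_inv hS h2 hdim
  have hME : PicF.IsInvertible (CohB1.tensorMod M (E hS h2)) := HilbPolyLib.isInvertible_tensor hM hE
  -- the inclusion of sections
  have hle : Module.finrank k (Coh.HH Sq (CohB1.tensorMod M' (E hS h2)) 0) ≤
      Module.finrank k (Coh.HH Sq (CohB1.tensorMod M (E hS h2)) 0) := by
    have h := HypSqLib.left_le (k := k)
      (HilbPolyLib.shortExact_tensor hME (CurvLib.idealSeq_shortExact J))
      (HilbPolyLib.isCoh_tensor hME (CurvLib.isCoh_of_isInvertible hJ))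
      (HilbPolyLib.isCoh_tensor hME (DevissLib.isCoh_structureModule _))
      (HilbPolyLib.isCoh_tensor hME (CurvLib.isCoh_quotMod _))
    let a : CohB1.tensorMod (CohB1.tensorMod M (E hS h2)) (ClSub.idealMod J) ≅ CohB1.tensorMod M' (E hS h2) :=
      assocIso _ _ _ ≪≫ congrRight _ (swapIso _ _) ≪≫ (assocIso _ _ _).symm
    let b : CohB1.tensorMod (CohB1.tensorMod M (E hS h2)) (Coh.structureModule Sq) ≅ CohB1.tensorMod M (E hS h2) :=
      swapIso _ _ ≪≫ unitLeft _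
    exact (CurvLib.hIso (k := k) a 0).finrank_eq.symm.trans_le (h.trans (CurvLib.hIso (k := k) b 0).finrank_eq.le)
  have hpos : ((g : ℤ) - 1) * ((r : ℤ) + 1) < 2 * m := by push_cast at hr; exact hr
  have u0 := fun n => hh_split hS h2 hdim hM n
  have u1 := fun n => hh_split hS h2 hdim hM' n
  have v := HypSqLib.tw_h1_border hdim hg hgen κ hκ hκ2 σ hσp N hN hNinv hσ hm (r := r + 1) hr hlt
  have v1 := HypSqLib.tw_h1 hdim hg hgen κ hκ hκ2 σ hσp N hN hNinv hσ hm r hpos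
  have v2 := HypSqLib.tw_h2 hdim hg hgen κ hκ hκ2 σ hσp N hN hNinv hσ hm
  have a1 := u0 1; have a2 := u0 2; have b1 := u1 1; have b2 := u1 2
  rw [(CurvLib.hIso (k := k) e 1).finrank_eq] at a1
  rw [(CurvLib.hIso (k := k) e 2).finrank_eq, v2] at a2
  rw [(CurvLib.hIso (k := k) e' 1).finrank_eq, v1] at b1
  rw [(CurvLib.hIso (k := k) e' 2).finrank_eq, v2] at b2
  have c := euler_pb hS h2 hdim hM
  have c' := euler_pb hS h2 hdim hM'
  rw [CurvLib.euler_congr (k := k) e, HypSqLib.euler_tw hdim hg hgen κ hκ hκ2 σ hσp N hN hNinv hσ,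
    euler_three hS hdim (CohB1.tensorMod M (E hS h2))] at c
  rw [CurvLib.euler_congr (k := k) e', HypSqLib.euler_tw hdim hg hgen κ hκ hκ2 σ hσp N hN hNinv hσ,
    euler_three hS hdim (CohB1.tensorMod M' (E hS h2))] at c'
  have d := euler_Fm_tw hS h2 hdim hM hg hgen κ hκ hκ2 σ hσp hσ hσ1 N hN hNinv e
  have d' := euler_Fm_tw hS h2 hdim hM' hg hgen κ hκ hκ2 σ hσp hσ hσ1 N hN hNinv e'
  rw [a1] at v
  obtain ⟨z1, z2⟩ := Nat.add_eq_zero.1 b1.symm
  obtain ⟨z3, z4⟩ := Nat.add_eq_zero.1 b2.symm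
  obtain ⟨z5, z6⟩ := Nat.add_eq_zero.1 a2.symm
  rw [z2, z4] at c'
  rw [z6] at c
  have hle' : (Module.finrank k (Coh.HH Sq (CohB1.tensorMod M' (E hS h2)) 0) : ℤ) ≤
      Module.finrank k (Coh.HH Sq (CohB1.tensorMod M (E hS h2)) 0) := by exact_mod_cast hle
  push_cast at v c c' d d'
  have : (Module.finrank k (Coh.HH Sq M 1) : ℤ) ≤ 0 := by linarith
  omega

include hdim hg hgen hκ hκ2 hσp hσ hσ1 hS h2 hN hNinv hM in
/-- Euler characteristic of the classes `mΘ + r∇`. -/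
theorem euler_box_tw {A : C.Modules} (hA : PicF.IsInvertible A) (hd : Curv2.deg k C A 1 = 1) {m r : ℕ}
    (e : pb π M ≅ HypSqLib.Tw N (HypSqLib.box (k := k) (CohB1.tensorPow A m) (CohB1.tensorPow A m)) r) :
    2 * Curv2.euler k Sq M = ((m : ℤ) - ((g : ℤ) - 1)) * ((m : ℤ) - ((g : ℤ) - 1) + 1) +
      2 * (r : ℤ) * (m + 1) - ((g : ℤ) - 1) * r * (r + 1) := by
  haveI := HypSqLib.integral k C
  haveI := CurvLib.isNoetherian k (X := C)
  have h11 := HypSqLib.invol_sq hdim hg hgen κ hκ hκ2 h2 hσ hσ1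
  haveI : IsIso σ := ⟨σ, h11, h11⟩
  have hAm := AmpleThLib.tensorPow_isInvertible hA m
  have hB := HypSqLib.box_inv (k := k) hAm hAm
  have hdm : Curv2.deg k C (CohB1.tensorPow A m) 1 = m := by
    rw [HypSqLib.deg_pow hdim hA, hd, mul_one]
  have dgr : ∀ (τ : C ⟶ C) [IsIso τ] (hτ : τ ≫ (C ↘ Spec (CommRingCat.of k)) = C ↘ Spec (CommRingCat.of k)),
      Curv2.deg k C (pb (HypSqLib.gr τ hτ) (HypSqLib.box (k := k) (CohB1.tensorPow A m) (CohB1.tensorPow A m))) 1 = 2 * m := by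
    intro τ _ hτ
    rw [CurvLib.deg_congr (k := k) (HypSqLib.pbBox τ hτ _ _),
      HypSqLib.deg_add hdim hAm (AmpleDevLib.isInvertible_pb _ hAm), HypSqLib.deg_pb_iso hdim τ hτ hAm, hdm]
    ring
  have up : ∀ j : ℕ, Curv2.euler k (sq k C) (HypSqLib.Tw N (HypSqLib.box (k := k) (CohB1.tensorPow A m) (CohB1.tensorPow A m)) j) =
      ((m : ℤ) - ((g : ℤ) - 1)) ^ 2 + 2 * (m : ℤ) * j - ((g : ℤ) - 1) * j * (j + 2) := by
    intro j
    induction j with
    | zero =>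
      rw [CurvLib.euler_congr (k := k) (HypSqLib.twZero N _),
        HypSqLib.euler_box hdim (CurvLib.isCoh_of_isInvertible hAm) (CurvLib.isCoh_of_isInvertible hAm),
        HypSqLib.euler_eq_deg hdim, hdm, hgen]
      push_cast; ring
    | succ j ih =>
      rw [HypSqLib.euler_step hdim σ hσp N hN hNinv hB, ih, HypSqLib.euler_eq_deg hdim,
        HypSqLib.deg_pb_tw hdim hg hgen κ hκ hκ2 σ hσp N hN hNinv hσ hB, dgr σ hσp, hgen]
      push_cast; ring
  have h := euler_M hS h2 hdim hM hg hgen κ hκ hκ2 σ hσp hσ hσ1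
  rw [CurvLib.euler_congr (k := k) e,
    CurvLib.deg_congr (k := k) ((Scheme.Modules.pullback (HypSqLib.gr (k := k) (𝟙 C) HypSqLib.id_over)).mapIso e),
    up, deg_diag_tw h2 hdim hg hgen κ hκ hκ2 σ hσp hσ hσ1 N hN hNinv hB, dgr (𝟙 C)] at h
  linarith

end SymSqLib
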