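import Groth.Agent.SymSqLib.Smooth
import Groth.Agent.SymSqLib.Pic
import Groth.Agent.SurfNumLib.Eff
import Groth.Agent.DevissLib.Stalk

/-! The canonical module of the symmetric square of a hyperelliptic curve. -/

set_option autoImplicit false
set_option linter.style.haveILetI false
set_option linter.unusedSectionVars false
set_option maxHeartbeats 1000000

universe u

open CategoryTheory CategoryTheory.Limits AlgebraicGeometry TopologicalSpace Opposite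
open KFlatLib (pb)
open HypSqLib (sq Fm Tw)
open HilbPolyLib (congrLeft congrRight assocIso swapIso unitLeft)

noncomputable section

namespace SymSqLib

attribute [local instance] HypSqLib.overSq

variable {k : Type u} [Field k] [IsAlgClosed k] {C : Scheme.{u}} [C.Over (Spec (CommRingCat.of k))]
  [IsProper (C ↘ Spec (CommRingCat.of k))] [Smooth (C ↘ Spec (CommRingCat.of k))] [ConnectedSpace C]
  {Sq : Scheme.{u}} [Sq.Over (Spec (CommRingCat.of k))] {π : sq k C ⟶ Sq}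
  (hS : IsSym π (Sq ↘ Spec (CommRingCat.of k))) (h2 : (2 : k) ≠ 0) (hdim : topologicalKrullDim C = 1)
  {g : ℕ} (hg : 2 ≤ g) (hgen : Curv2.genus k C = g) (κ : C ⟶ CohB1.ProjSpace 1 k)
  (hκ : κ ≫ CohB1.ProjSpace.toSpec 1 k = C ↘ Spec (CommRingCat.of k)) [IsFinite κ] [Flat κ]
  (hκ2 : ∀ y : ↥(CohB1.ProjSpace 1 k), κ.finrank y = 2)
  (σ : C ⟶ C) (hσp : σ ≫ (C ↘ Spec (CommRingCat.of k)) = C ↘ Spec (CommRingCat.of k))
  (hσ : σ ≫ κ = κ) (hσ1 : σ ≠ 𝟙 C)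
  (N : (sq k C).Modules) (hN : PicF.IsInvertible N)
  (hNinv : ClSub.IsInverseOf N (ClSub.idealMod (HypSqLib.gr σ hσp).ker))

theorem nonempty_Fm_add (a b : ℕ) : Nonempty (Fm (k := k) κ (a + b) ≅ CohB1.tensorMod (Fm κ a) (Fm κ b)) := by
  obtain ⟨e⟩ := IntMultLib.nonempty_tensorPow_add (HypSqLib.Lκ κ) a b
  exact ⟨congrLeft ((Scheme.Modules.pullback _).mapIso e ≪≫ PicPnLib.pullTens _ _ _) _ ≪≫
    congrRight _ ((Scheme.Modules.pullback _).mapIso e ≪≫ PicPnLib.pullTens _ _ _) ≪≫ (HypSqLib.middle _ _ _ _).symm⟩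

include hdim hg hgen hκ hκ2 hσp hσ hσ1 hS h2 hN hNinv in
/-- `W₀` with pullback `F_{g-2} + Γ`. -/
theorem nonempty_pb_W0 {M : Sq.Modules} (e : pb π M ≅ Fm κ (g - 1)) :
    Nonempty (pb π (CohB1.tensorMod M (E hS h2)) ≅ Tw N (Fm κ (g - 2)) 1) := by
  obtain ⟨eE⟩ := pb_E hS h2 hdim
  have hIΔ := HypSqLib.ideal_inv (k := k) (𝟙 C) HypSqLib.id_over hdim
  obtain ⟨dΔ⟩ := MiscFlat6.nonempty_dualIso hIΔ
  obtain ⟨eB⟩ := HypSqLib.diag_add_graph hdim hg hgen κ hκ hκ2 σ hσp h2 hσ hσ1 hNinv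
    (ND := MiscFlat6.dual _) ⟨swapIso _ _ ≪≫ dΔ⟩
  obtain ⟨e1⟩ := nonempty_Fm_add (k := k) κ (g - 2) 1
  have hg1 : g - 1 = g - 2 + 1 := by omega
  let eF : Fm (k := k) κ 1 ≅ HypSqLib.B1 κ :=
    congrLeft ((Scheme.Modules.pullback _).mapIso (unitLeft _)) _ ≪≫
      congrRight _ ((Scheme.Modules.pullback _).mapIso (unitLeft _))
  exact ⟨PicPnLib.pullTens π M (E hS h2) ≪≫ congrLeft (e ≪≫ eqToIso (by rw [hg1]) ≪≫ e1 ≪≫ congrRight _ (eF ≪≫ eB.symm)) _ ≪≫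
    congrRight _ eE ≪≫ assocIso _ _ _ ≪≫ congrRight _ (swapIso _ _ ≪≫ (assocIso _ _ _).symm ≪≫
      congrLeft dΔ _ ≪≫ unitLeft _ ≪≫ (unitLeft N).symm)⟩

include hdim hg hgen hκ hκ2 hσp hσ hσ1 hS h2 in
theorem euler_Fm {M : Sq.Modules} (hM : PicF.IsInvertible M) {m : ℕ} (e : pb π M ≅ Fm κ m) :
    2 * Curv2.euler k Sq M = (2 * (m : ℤ) - ((g : ℤ) - 1) + 1) * (2 * (m : ℤ) - ((g : ℤ) - 1)) := by
  obtain ⟨d⟩ := MiscFlat6.nonempty_dualIso (HypSqLib.ideal_inv σ hσp hdim)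
  have h := euler_Fm_tw hS h2 hdim hM hg hgen κ hκ hκ2 σ hσp hσ hσ1 (MiscFlat6.dual _)
    (MiscFlat6.dual_isInvertible (HypSqLib.ideal_inv σ hσp hdim)) ⟨swapIso _ _ ≪≫ d⟩ (r := 0)
    (e ≪≫ (HypSqLib.twZero _ _).symm)
  push_cast at h
  linarith

include hdim hg hgen hκ hκ2 hσp hσ hσ1 hS h2 hN hNinv in
/-- The canonical module of the symmetric square pulls back to `F_{g-2} + Γ`. -/
theorem canonical {W : Sq.Modules} (hW : ExtPow.IsExtPow 2 (Omega.sheaf (Sq ↘ Spec (CommRingCat.of k))) W) :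
    PicF.IsInvertible W ∧ Nonempty (pb π W ≅ Tw N (Fm κ (g - 2)) 1) := by
  haveI := hS.proper
  haveI := smooth_q hS h2 hdim
  haveI := integral hS hdim
  haveI := CurvLib.isNoetherian k (X := Sq)
  have hX := dim_eq hS hdim
  haveI := SurfNumLib.smoothRel_of_dim (k := k) hX
  obtain ⟨n, ι, hι, hιk⟩ := SurfAmpleLib.exists_embedding_of_smooth k hX
  haveI := hι
  have hWi := SurfNumLib.isInvertible_canonical (k := k) hW
  obtain ⟨B, hB, ⟨eB⟩⟩ := exists_Fm hdim hg hgen κ hκ hκ2 σ hσp hσ hσ1 hS h2 1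
  obtain ⟨M, hM, ⟨eM⟩⟩ := exists_Fm hdim hg hgen κ hκ hκ2 σ hσp hσ hσ1 hS h2 (g - 1)
  obtain ⟨e0⟩ := nonempty_pb_W0 hS h2 hdim hg hgen κ hκ hκ2 σ hσp hσ hσ1 N hN hNinv eM
  have hM0 := HilbPolyLib.isInvertible_tensor hM (E_inv hS h2 hdim)
  have hBA := isAmple_B hS hdim κ hκ hκ2 hB eB
  -- intersection numbers with the ample module
  have hO := euler_O hS h2 hdim hg hgen κ hκ hκ2 σ hσp hσ hσ1
  have cB := euler_Fm hS h2 hdim hg hgen κ hκ hκ2 σ hσp hσ hσ1 hB eB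
  have cM := euler_Fm hS h2 hdim hg hgen κ hκ hκ2 σ hσp hσ hσ1 hM eM
  obtain ⟨eBB⟩ := nonempty_Fm_add (k := k) κ 1 1
  have cBB := euler_Fm hS h2 hdim hg hgen κ hκ hκ2 σ hσp hσ hσ1 (HilbPolyLib.isInvertible_tensor hB hB)
    (m := 1 + 1) (PicPnLib.pullTens π B B ≪≫ congrLeft eB _ ≪≫ congrRight _ eB ≪≫ eBB.symm)
  obtain ⟨eBM⟩ := nonempty_Fm_add (k := k) κ 1 (g - 1)
  have cBM := euler_Fm hS h2 hdim hg hgen κ hκ hκ2 σ hσp hσ hσ1 (HilbPolyLib.isInvertible_tensor hB hM)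
    (m := 1 + (g - 1)) (PicPnLib.pullTens π B M ≪≫ congrLeft eB _ ≪≫ congrRight _ eM ≪≫ eBM.symm)
  have c0 := euler_Fm_tw hS h2 hdim hM0 hg hgen κ hκ hκ2 σ hσp hσ hσ1 N hN hNinv e0
  obtain ⟨eB0⟩ := nonempty_Fm_add (k := k) κ 1 (g - 2)
  have cB0 := euler_Fm_tw hS h2 hdim (HilbPolyLib.isInvertible_tensor hB hM0) hg hgen κ hκ hκ2 σ hσp hσ hσ1 N hN hNinv
    (m := 1 + (g - 2)) (r := 1)
    (PicPnLib.pullTens π B _ ≪≫ congrLeft eB _ ≪≫ congrRight _ e0 ≪≫ (assocIso _ _ _).symm ≪≫ congrLeft eB0.symm _)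
  have pBB := HypSqLib.pr_expand (k := k) B B
  have pMB := HypSqLib.pr_expand (k := k) M B
  have p0B := HypSqLib.pr_expand (k := k) (CohB1.tensorMod M (E hS h2)) B
  have rr := SurfNumLib.riemann_roch (k := k) hX ι hιk hW hB
  have g1 : ((g - 1 : ℕ) : ℤ) = (g : ℤ) - 1 := by omega
  have g2 : ((g - 2 : ℕ) : ℤ) = (g : ℤ) - 2 := by omega
  push_cast [g1, g2] at cB cM cBB cBM c0 cB0
  ring_nf at hO cB cM cBB cBM c0 cB0
  have hWB : HodgeIdxLib.pr k W B = 4 * (g : ℤ) - 6 := by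
    rw [HodgeIdxLib.pr_comm]; linarith
  have h0B : HodgeIdxLib.pr k (CohB1.tensorMod M (E hS h2)) B = 4 * (g : ℤ) - 6 := by linarith
  have hMB : HodgeIdxLib.pr k M B = 4 * (g : ℤ) - 4 := by linarith
  -- one of the two candidates has a section in the difference
  haveI := HypSqLib.proper_sq (k := k) (C := C)
  have hsplit := hh_split hS h2 hdim hM 2
  rw [(CurvLib.hIso (k := k) eM 2).finrank_eq,
    (HypSqLib.hh_box (k := k) hdim (CurvLib.isCoh_of_isInvertible (HypSqLib.pow_inv (k := k) hdim κ hκ hκ2 (g - 1)))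
      (CurvLib.isCoh_of_isInvertible (HypSqLib.pow_inv (k := k) hdim κ hκ hκ2 (g - 1)))).2.2] at hsplit
  have hs := (HypSqLib.hh_small hdim hg hgen κ hκ hκ2 (s := g - 1) (by omega)).2
  rw [g1] at hs
  rw [show Module.finrank k (Coh.HH C (CohB1.tensorPow (HypSqLib.Lκ κ) (g - 1)) 1) = 1 by omega] at hsplit
  have key : ∀ {L : Sq.Modules}, PicF.IsInvertible L → 0 < Module.finrank k (Coh.HH Sq L 2) →
      ∃ φ : Coh.structureModule Sq ⟶ CohB1.tensorMod (MiscFlat6.dual L) W, φ ≠ 0 ∧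
        HodgeIdxLib.pr k (CohB1.tensorMod (MiscFlat6.dual L) W) B = HodgeIdxLib.pr k W B - HodgeIdxLib.pr k L B := by
    intro L hL hpos
    obtain ⟨d⟩ := MiscFlat6.nonempty_dualIso hL
    have hd := MiscFlat6.dual_isInvertible hL
    have h := SurfNumLib.hh_dual (k := k) ι hιk hW hL d 2 le_rfl
    rw [show (2 - 2 : ℕ) = 0 from rfl] at h
    haveI : Nontrivial (Coh.HH Sq (CohB1.tensorMod (MiscFlat6.dual L) W) 0) :=
      Module.nontrivial_of_finrank_pos (R := k) (lt_of_lt_of_eq hpos h)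
    obtain ⟨φ, hφ⟩ := CurvLib.exists_hom_ne_zero (L := CohB1.tensorMod (MiscFlat6.dual L) W) inferInstance
    refine ⟨φ, hφ, ?_⟩
    rw [HodgeIdxLib.pr_tensor hX.le hd hWi hB, HodgeIdxLib.pr_inverse hX.le hL hd hB d]
    ring
  rcases Nat.eq_zero_or_pos (Module.finrank k (Coh.HH Sq (CohB1.tensorMod M (E hS h2)) 2)) with h0 | h0
  · exfalso
    obtain ⟨φ, hφ, hp⟩ := key hM (by omega)
    have h := HodgeIdxLib.nonneg_of_section (k := k) hX
      (HilbPolyLib.isInvertible_tensor (MiscFlat6.dual_isInvertible hM) hWi) hBA hφ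
    have h' : 0 ≤ HodgeIdxLib.pr k (CohB1.tensorMod (MiscFlat6.dual M) W) B := h
    omega
  · obtain ⟨φ, hφ, hp⟩ := key hM0 h0
    have hT := HilbPolyLib.isInvertible_tensor (MiscFlat6.dual_isInvertible hM0) hWi
    haveI : Epi φ := Preadditive.epi_of_isZero_cokernel φ (DevissLib.isZero_of_support_empty (by
      rw [← Set.not_nonempty_iff_eq_empty]
      intro hne
      have := SurfNumLib.pos_of_section (k := k) hX hT hBA hφ hne
      omega))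
    haveI := CohCmpLib.isIso_of_epi_rank_one (CurvLib.locFree_of_isInvertible CurvLib.isInvertible_structureModule)
      (CurvLib.locFree_of_isInvertible hT) φ
    obtain ⟨d⟩ := MiscFlat6.nonempty_dualIso hM0
    let v : W ≅ CohB1.tensorMod M (E hS h2) :=
      (unitLeft W).symm ≪≫ congrLeft d.symm _ ≪≫ assocIso _ _ _ ≪≫ congrRight _ (asIso φ).symm ≪≫ swapIso _ _ ≪≫
        unitLeft _
    exact ⟨hWi, ⟨(Scheme.Modules.pullback π).mapIso v ≪≫ e0⟩⟩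

end SymSqLib
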