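import Groth.Agent.SymSqLib.Basic
import Groth.Agent.HypSqLib.Diag

/-! Anti-invariant local generators of the ideal of the diagonal. -/

set_option autoImplicit false
set_option linter.style.haveILetI false
set_option linter.unusedSectionVars false

universe u

open CategoryTheory CategoryTheory.Limits AlgebraicGeometry TopologicalSpace Opposite
open HypSqLib (sq)

noncomputable section

namespace SymSqLib

attribute [local instance] HypSqLib.overSq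

variable {k : Type u} [Field k] [IsAlgClosed k] {C : Scheme.{u}} [C.Over (Spec (CommRingCat.of k))]
  [IsProper (C ↘ Spec (CommRingCat.of k))] [Smooth (C ↘ Spec (CommRingCat.of k))] [ConnectedSpace C]
  {Sq : Scheme.{u}} {π : sq k C ⟶ Sq} {q : Sq ⟶ Spec (CommRingCat.of k)} (hS : IsSym π q)
  (hdim : topologicalKrullDim C = 1) (h2 : (2 : k) ≠ 0)

/-- The diagonal. -/
abbrev dg : C ⟶ sq k C := pullback.diagonal (C ↘ Spec (CommRingCat.of k))

include h2 in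
theorem isUnit_two {Y : Scheme.{u}} (f : Y ⟶ Spec (CommRingCat.of k)) (V : Y.Opens) : IsUnit (2 : Γ(Y, V)) := by
  have := ((isUnit_iff_ne_zero.2 h2).map
    ((f.appLE ⊤ V le_top).hom.comp (Scheme.ΓSpecIso (CommRingCat.of k)).inv.hom))
  rwa [map_ofNat] at this

include hS

theorem swA_app (U : Sq.Opens) (b : Γ(Sq, U)) : swA hS.inv U ((π.app U).hom b) = (π.app U).hom b := by
  have : ∀ (f : sq k C ⟶ Sq) (e : π = f) (h : π ⁻¹ᵁ U ≤ f ⁻¹ᵁ U), (f.appLE U (π ⁻¹ᵁ U) h).hom b = (π.app U).hom b := by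
    rintro f rfl h
    rw [Scheme.Hom.app_eq_appLE]
  refine Eq.trans ?_ (this _ hS.inv.symm (by rw [hS.inv]))
  show (π.app U ≫ sw.appLE (π ⁻¹ᵁ U) (π ⁻¹ᵁ U) _).hom b = _
  rw [Scheme.Hom.app_eq_appLE, Scheme.Hom.appLE_comp_appLE]

theorem swA_swA (U : Sq.Opens) (s : Γ(sq k C, π ⁻¹ᵁ U)) : swA hS.inv U (swA hS.inv U s) = s := by
  have : ∀ (f : sq k C ⟶ sq k C) (e : f = 𝟙 _) (h : π ⁻¹ᵁ U ≤ f ⁻¹ᵁ (π ⁻¹ᵁ U)),
      (f.appLE (π ⁻¹ᵁ U) (π ⁻¹ᵁ U) h).hom s = s := by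
    rintro f rfl h
    simp only [Scheme.Hom.appLE, Scheme.Hom.id_app, Category.id_comp]
    exact ConcreteCategory.congr_hom ((sq k C).presheaf.map_id _) s
  refine Eq.trans ?_ (this _ sw_sw ((le_swPre hS.inv U).trans (fun x hx => le_swPre hS.inv U hx)))
  show (sw.appLE (π ⁻¹ᵁ U) (π ⁻¹ᵁ U) _ ≫ sw.appLE (π ⁻¹ᵁ U) (π ⁻¹ᵁ U) _).hom s = _
  rw [Scheme.Hom.appLE_comp_appLE]

theorem swA_res {U U' : Sq.Opens} (h : U' ≤ U) (s : Γ(sq k C, π ⁻¹ᵁ U)) :
    swA hS.inv U' (((sq k C).presheaf.map (homOfLE (fun x hx => h hx : π ⁻¹ᵁ U' ≤ π ⁻¹ᵁ U)).op).hom s) =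
      ((sq k C).presheaf.map (homOfLE (fun x hx => h hx : π ⁻¹ᵁ U' ≤ π ⁻¹ᵁ U)).op).hom (swA hS.inv U s) := by
  show ((sq k C).presheaf.map _ ≫ sw.appLE _ _ _).hom s = (sw.appLE _ _ _ ≫ (sq k C).presheaf.map _).hom s
  rw [Scheme.Hom.map_appLE, Scheme.Hom.appLE_map]

theorem dg_swA (U : Sq.Opens) (s : Γ(sq k C, π ⁻¹ᵁ U)) :
    (dg.app (π ⁻¹ᵁ U)).hom (swA hS.inv U s) = (dg.app (π ⁻¹ᵁ U)).hom s := by
  have : ∀ (f : C ⟶ sq k C) (e : dg = f) (h : dg ⁻¹ᵁ (π ⁻¹ᵁ U) ≤ f ⁻¹ᵁ (π ⁻¹ᵁ U)),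
      (f.appLE (π ⁻¹ᵁ U) (dg ⁻¹ᵁ (π ⁻¹ᵁ U)) h).hom s = (dg.app (π ⁻¹ᵁ U)).hom s := by
    rintro f rfl h
    rw [Scheme.Hom.app_eq_appLE]
  refine Eq.trans ?_ (this _ diag_sw.symm (by rw [diag_sw]))
  show (sw.appLE _ _ _ ≫ dg.app _).hom s = _
  rw [Scheme.Hom.app_eq_appLE, Scheme.Hom.appLE_comp_appLE]

include h2 in
/-- An anti-invariant function vanishes on the diagonal. -/
theorem dg_anti (U : Sq.Opens) {s : Γ(sq k C, π ⁻¹ᵁ U)} (hs : swA hS.inv U s = -s) :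
    (dg.app (π ⁻¹ᵁ U)).hom s = 0 := by
  have h := dg_swA hS U s
  rw [hs, map_neg, neg_eq_iff_add_eq_zero, ← two_mul] at h
  exact (isUnit_two h2 (C ↘ Spec (CommRingCat.of k)) _).mul_right_eq_zero.1 h

/-- The differences with the swapped function generate the ideal of the diagonal. -/
theorem ideal_le_span {U : Sq.Opens} (hT : IsAffineOpen (π ⁻¹ᵁ U)) :
    (dg (k := k) (C := C)).ker.ideal ⟨π ⁻¹ᵁ U, hT⟩ ≤ Ideal.span (Set.range fun f => f - swA hS.inv U f) := by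
  let T := π ⁻¹ᵁ U
  obtain ⟨J, hJ⟩ : ∃ J : Ideal Γ(sq k C, π ⁻¹ᵁ U), J = Ideal.span (Set.range fun f => f - swA hS.inv U f) := ⟨_, rfl⟩
  rw [← hJ]
  have hmk : ∀ f, Ideal.Quotient.mk J (swA hS.inv U f) = Ideal.Quotient.mk J f := fun f =>
    (Ideal.Quotient.eq.2 (hJ.symm ▸ Ideal.subset_span (Set.mem_range_self f))).symm
  let φ : Γ(sq k C, T) ⟶ CommRingCat.of (Γ(sq k C, T) ⧸ J) := CommRingCat.ofHom (Ideal.Quotient.mk J)
  let g : Spec (CommRingCat.of (Γ(sq k C, T) ⧸ J)) ⟶ sq k C := Spec.map φ ≫ hT.fromSpec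
  have hg : g ≫ sw = g := by
    show (Spec.map φ ≫ hT.fromSpec) ≫ sw = Spec.map φ ≫ hT.fromSpec
    rw [Category.assoc, ← hT.SpecMap_appLE_fromSpec sw hT (le_swPre hS.inv U), ← Category.assoc, ← Spec.map_comp]
    congr 2
    exact CommRingCat.hom_ext (RingHom.ext hmk)
  have hg' : g ≫ pullback.fst _ _ = g ≫ pullback.snd _ _ := by
    conv_rhs => rw [← hg, Category.assoc, sw_snd]
  have hfac : g = (g ≫ pullback.fst _ _) ≫ dg := by
    apply pullback.hom_ext <;> simp only [Category.assoc, pullback.diagonal_fst, pullback.diagonal_snd, Category.comp_id]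
    exact hg'.symm
  intro c hc
  haveI := HypSqLib.proper_sq (k := k) (C := C)
  haveI : QuasiCompact (g ≫ (sq k C ↘ Spec (CommRingCat.of k))) := (quasiCompact_iff_compactSpace _).2 inferInstance
  haveI : QuasiCompact g := QuasiCompact.of_comp g (sq k C ↘ Spec (CommRingCat.of k))
  have hc' : c ∈ g.ker.ideal (⟨π ⁻¹ᵁ U, hT⟩ : (sq k C).affineOpens) := by
    rw [hfac]
    exact Scheme.Hom.le_ker_comp _ _ _ hc
  rw [Scheme.Hom.ker_apply, RingHom.mem_ker] at hc'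
  have h1 : (⊤ : (Spec (CommRingCat.of (Γ(sq k C, T) ⧸ J))).Opens) ≤ g ⁻¹ᵁ T := fun z _ => by
    show hT.fromSpec (Spec.map φ z) ∈ T
    rw [← SetLike.mem_coe, ← hT.range_fromSpec]
    exact ⟨_, rfl⟩
  have h0 : (g.appLE T ⊤ h1).hom c = 0 := by
    show ((Spec _).presheaf.map _).hom ((g.app T).hom c) = 0
    rw [hc', map_zero]
  have hF : ⊤ ≤ hT.fromSpec ⁻¹ᵁ T := hT.fromSpec_preimage_self.ge
  have hM : (Spec.map φ).appLE ⊤ ⊤ le_top = (Spec.map φ).appTop := by simp [Scheme.Hom.app_eq_appLE]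
  have hA : hT.fromSpec.appLE T ⊤ hF = (Scheme.ΓSpecIso _).inv := by
    rw [Scheme.Hom.appLE, hT.fromSpec_app_self, Category.assoc, ← Functor.map_comp, ← op_comp]
    exact (congrArg _ ((congrArg _ (congrArg Quiver.Hom.op (Subsingleton.elim _ (𝟙 _)))).trans
      ((Spec _).presheaf.map_id _))).trans (Category.comp_id _)
  rw [show g.appLE T ⊤ h1 = hT.fromSpec.appLE T ⊤ hF ≫ (Spec.map φ).appLE ⊤ ⊤ le_top from
    (Scheme.Hom.appLE_comp_appLE _ _ _ _ _ _ _).symm, hA, hM, ← Scheme.ΓSpecIso_inv_naturality] at h0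
  exact Ideal.Quotient.eq_zero_iff_mem.1
    ((ConcreteCategory.bijective_of_isIso (Scheme.ΓSpecIso (CommRingCat.of (Γ(sq k C, T) ⧸ J))).inv).1
      (h0.trans (map_zero _).symm))

include hdim h2 in
/-- Every point has a neighbourhood with an anti-invariant generator of the ideal of the diagonal. -/
theorem exists_gen (y : Sq) {U₀' : Sq.Opens} (hy : y ∈ U₀') :
    ∃ (U : Sq.Opens) (_ : IsAffineOpen U) (hT : IsAffineOpen (π ⁻¹ᵁ U)) (a : Γ(sq k C, π ⁻¹ᵁ U)),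
      y ∈ U ∧ U ≤ U₀' ∧ swA hS.inv U a = -a ∧
        (dg (k := k) (C := C)).ker.ideal ⟨π ⁻¹ᵁ U, hT⟩ = Ideal.span {a} ∧ a ≠ 0 := by
  haveI := hS.finite
  haveI := (HypSqLib.integral_sq (k := k) hdim).1
  haveI := HypSqLib.integral k C
  obtain ⟨U₀, hU₀, hyU₀, hle⟩ := exists_isAffineOpen_mem_and_subset hy
  obtain ⟨x, rfl⟩ := hS.surjective y
  have hT₀ : IsAffineOpen (π ⁻¹ᵁ U₀) := hU₀.preimage π
  let T₀ := π ⁻¹ᵁ U₀
  let I := (dg (k := k) (C := C)).ker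
  let R := fun {W : (sq k C).Opens} (e : W ≤ T₀) => ((sq k C).presheaf.map (homOfLE e).op).hom
  obtain ⟨V, hxV, u, hu0, hu⟩ := HypSqLib.effCartier hdim (𝟙 C) (HypSqLib.id_over (k := k)) x
  have hu' : I.ideal V = Ideal.span {u} := hu
  obtain ⟨r, r', hrr, hxr⟩ := exists_basicOpen_le_affine_inter hT₀ V.2 x ⟨hyU₀, hxV⟩
  let D : (sq k C).affineOpens := ⟨(sq k C).basicOpen r, hT₀.basicOpen r⟩
  have hDT : D.1 ≤ T₀ := (sq k C).basicOpen_le r
  have hDV : D.1 ≤ V.1 := hrr.trans_le ((sq k C).basicOpen_le r')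
  haveI : Nonempty D.1 := ⟨⟨x, hxr⟩⟩
  let uD := ((sq k C).presheaf.map (homOfLE hDV).op).hom u
  have hID : I.ideal D = Ideal.span {uD} := by
    rw [← I.map_ideal (U := D) (V := V) hDV, hu', Ideal.map_span, Set.image_singleton]
    rfl
  have huD : uD ≠ 0 := by
    intro h0
    haveI : Nonempty V.1 := ⟨⟨x, hxV⟩⟩
    exact (mem_nonZeroDivisors_iff_ne_zero.1 hu0)
      (map_injective_of_isIntegral (sq k C) (homOfLE hDV) (h0.trans (map_zero _).symm))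
  obtain ⟨f, d, hd, hdx⟩ : ∃ (f : Γ(sq k C, T₀)) (d : Γ(sq k C, D.1)),
      R hDT (f - swA hS.inv U₀ f) = d * uD ∧ x ∈ (sq k C).basicOpen d := by
    by_contra! hcon
    let P := (D.2.primeIdealOf ⟨x, hxr⟩).asIdeal
    have hle' : I.ideal D ≤ P * Ideal.span {uD} := by
      rw [← I.map_ideal (U := D) (V := ⟨T₀, hT₀⟩) hDT]
      refine (Ideal.map_mono (ideal_le_span hS hT₀)).trans ?_
      rw [Ideal.map_span, Ideal.span_le]
      rintro _ ⟨_, ⟨f, rfl⟩, rfl⟩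
      have hm : R hDT (f - swA hS.inv U₀ f) ∈ I.ideal D := by
        refine I.ideal_le_comap_ideal (U := D) (V := ⟨T₀, hT₀⟩) hDT ?_
        rw [Scheme.Hom.ker_apply, RingHom.mem_ker, map_sub, dg_swA hS, sub_self]
      rw [hID, Ideal.mem_span_singleton'] at hm
      obtain ⟨d, hd⟩ := hm
      show R hDT (f - swA hS.inv U₀ f) ∈ _
      rw [← hd]
      refine Ideal.mul_mem_mul ?_ (Ideal.mem_span_singleton_self uD)
      by_contra hdP
      refine hcon f d hd.symm ?_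
      show ((⟨x, hxr⟩ : D.1) : sq k C) ∈ _
      rw [← D.2.fromSpec_primeIdealOf ⟨x, hxr⟩]
      show D.2.primeIdealOf ⟨x, hxr⟩ ∈ D.2.fromSpec ⁻¹ᵁ (sq k C).basicOpen d
      rw [D.2.fromSpec_preimage_basicOpen]
      exact hdP
    have := hle' (hID ▸ Ideal.mem_span_singleton_self uD)
    obtain ⟨p, hp, hpu⟩ := Ideal.mem_mul_span_singleton.1 this
    have : p = 1 := mul_right_cancel₀ huD (by rw [hpu, one_mul])
    exact (D.2.primeIdealOf ⟨x, hxr⟩).isPrime.ne_top ((Ideal.eq_top_iff_one _).2 (this ▸ hp))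
  let h := f - swA hS.inv U₀ f
  have hanti : swA hS.inv U₀ h = -h := by rw [map_sub, swA_swA hS, neg_sub]
  let G : (sq k C).Opens := ⟨{z | ∃ (W : (sq k C).affineOpens) (e : W.1 ≤ T₀), z ∈ W.1 ∧
      I.ideal W ≤ Ideal.span {R e h}}, by
    refine isOpen_iff_forall_mem_open.2 fun z ⟨W, e, hz, hW⟩ => ⟨W.1, fun z' hz' => ⟨W, e, hz', hW⟩, W.1.isOpen, hz⟩⟩
  have hxG : x ∈ G := by
    let W : (sq k C).affineOpens := ⟨(sq k C).basicOpen d, D.2.basicOpen d⟩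
    have hWD : W.1 ≤ D.1 := (sq k C).basicOpen_le d
    refine ⟨W, hWD.trans hDT, hdx, ?_⟩
    rw [← I.map_ideal (U := W) (V := D) hWD, hID, Ideal.map_span, Set.image_singleton]
    refine Ideal.span_singleton_le_span_singleton.2 ?_
    have hu2 : IsUnit (((sq k C).presheaf.map (homOfLE hWD).op).hom d) :=
      RingedSpace.isUnit_res_basicOpen (sq k C).toRingedSpace d
    refine hu2.dvd_mul_left.1 ?_
    have hm := congrArg ((sq k C).presheaf.map (homOfLE hWD).op).hom hd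
    rw [map_mul] at hm
    exact dvd_of_eq ((ConcreteCategory.congr_hom ((sq k C).presheaf.map_comp (homOfLE hDT).op (homOfLE hWD).op) h).trans hm)
  have hGs : ∀ z ∈ G, sw z ∈ G := by
    rintro z ⟨W, e, hz, hW⟩
    let W' : (sq k C).affineOpens := ⟨sw ⁻¹ᵁ W.1, W.2.preimage sw⟩
    have e' : W'.1 ≤ T₀ := fun w hw => by
      have h1 : π (sw w) ∈ U₀ := e hw
      rwa [← Scheme.Hom.comp_apply, hS.inv] at h1
    refine ⟨W', e', show sw (sw z) ∈ W.1 by rwa [sw_apply_apply], fun c hc => ?_⟩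
    obtain ⟨c, rfl⟩ := (ConcreteCategory.bijective_of_isIso (sw.app W.1)).2 c
    have hcW : c ∈ I.ideal W := by
      rw [Scheme.Hom.ker_apply, RingHom.mem_ker] at hc ⊢
      have hle : dg ⁻¹ᵁ W.1 ≤ dg ⁻¹ᵁ W'.1 := by
        show _ ≤ dg ⁻¹ᵁ (sw ⁻¹ᵁ W.1)
        rw [← Scheme.Hom.comp_preimage, diag_sw]
      have : ∀ (f : C ⟶ sq k C) (e : dg = f) (h : dg ⁻¹ᵁ W.1 ≤ f ⁻¹ᵁ W.1),
          (f.appLE W.1 (dg ⁻¹ᵁ W.1) h).hom c = (dg.app W.1).hom c := by
        rintro f rfl h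
        rw [Scheme.Hom.app_eq_appLE]
      refine (this _ diag_sw.symm (by rw [diag_sw])).symm.trans ?_
      rw [← Scheme.Hom.appLE_comp_appLE dg sw W.1 W'.1 (dg ⁻¹ᵁ W.1) le_rfl hle, ← Scheme.Hom.app_eq_appLE]
      show (C.presheaf.map _).hom ((dg.app W'.1).hom ((sw.app W.1).hom c)) = 0
      rw [hc, map_zero]
    obtain ⟨b, rfl⟩ := Ideal.mem_span_singleton'.1 (hW hcW)
    rw [map_mul]
    refine Ideal.mul_mem_left _ _ (Ideal.mem_span_singleton'.2 ⟨-1, ?_⟩)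
    rw [neg_one_mul, ← map_neg, ← hanti]
    show (sw.appLE T₀ T₀ _ ≫ (sq k C).presheaf.map _).hom h = ((sq k C).presheaf.map _ ≫ sw.app W.1).hom h
    rw [Scheme.Hom.app_eq_appLE, Scheme.Hom.appLE_map, Scheme.Hom.map_appLE]
  obtain ⟨U, hU, hxU, hUU, hUG⟩ := exists_affine_saturated hS hGs hxG hyU₀
  have hT : IsAffineOpen (π ⁻¹ᵁ U) := hU.preimage π
  have eT : π ⁻¹ᵁ U ≤ T₀ := fun z hz => hUU hz
  have ha : swA hS.inv U (R eT h) = -R eT h := by
    rw [show swA hS.inv U (R eT h) = R eT (swA hS.inv U₀ h) from swA_res hS hUU h, hanti, map_neg]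
  have hI : I.ideal ⟨π ⁻¹ᵁ U, hT⟩ = Ideal.span {R eT h} := by
    refine le_antisymm (fun c hc => hT.mem_ideal_iff.2 fun z hz => ?_) ?_
    · obtain ⟨W, e, hzW, hW⟩ := hUG hz
      obtain ⟨r₁, r₂, h12, hz1⟩ := exists_basicOpen_le_affine_inter hT W.2 z ⟨hz, hzW⟩
      let E : (sq k C).affineOpens := ⟨(sq k C).basicOpen r₁, hT.basicOpen r₁⟩
      have h1 : E.1 ≤ π ⁻¹ᵁ U := (sq k C).basicOpen_le r₁
      have h2' : E.1 ≤ W.1 := h12.trans_le ((sq k C).basicOpen_le r₂)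
      have hcE : ((sq k C).presheaf.map (homOfLE h1).op).hom c ∈ Ideal.span {R (h1.trans eT) h} := by
        have := I.ideal_le_comap_ideal (U := E) (V := ⟨_, hT⟩) h1 hc
        rw [Ideal.mem_comap, ← I.map_ideal (U := E) (V := W) h2'] at this
        have := Ideal.map_mono hW this
        rw [Ideal.map_span, Set.image_singleton] at this
        have e1 : ((sq k C).presheaf.map (homOfLE h2').op).hom (R e h) = R (h1.trans eT) h :=
          (ConcreteCategory.congr_hom ((sq k C).presheaf.map_comp (homOfLE e).op (homOfLE h2').op) h).symm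
        exact e1 ▸ this
      obtain ⟨b, hb⟩ := Ideal.mem_span_singleton'.1 hcE
      rw [Ideal.map_span, Set.image_singleton, Ideal.mem_span_singleton']
      refine ⟨((sq k C).presheaf.germ E.1 z hz1).hom b, ?_⟩
      have := congrArg ((sq k C).presheaf.germ E.1 z hz1).hom hb
      rw [map_mul] at this
      refine Eq.trans ?_ (this.trans (TopCat.Presheaf.germ_res_apply _ (homOfLE h1) z hz1 c))
      congr 1
      exact (TopCat.Presheaf.germ_res_apply _ (homOfLE eT) z hz h).trans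
        (TopCat.Presheaf.germ_res_apply _ (homOfLE (h1.trans eT)) z hz1 h).symm
    · rw [Ideal.span_singleton_le_iff_mem, Scheme.Hom.ker_apply, RingHom.mem_ker]
      exact dg_anti hS h2 U ha
  refine ⟨U, hU, hT, R eT h, hxU, hUU.trans (fun z hz => hle hz), ha, hI, fun h0 => ?_⟩
  have hbot : I.ideal ⟨π ⁻¹ᵁ U, hT⟩ = ⊥ := by rw [hI, h0, Ideal.span_singleton_eq_bot]
  obtain ⟨r₁, r₂, h12, hz1⟩ := exists_basicOpen_le_affine_inter hT D.2 x ⟨hxU, hxr⟩
  let E : (sq k C).affineOpens := ⟨(sq k C).basicOpen r₁, hT.basicOpen r₁⟩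
  have h2' : E.1 ≤ D.1 := h12.trans_le ((sq k C).basicOpen_le r₂)
  haveI : Nonempty E.1 := ⟨⟨x, hz1⟩⟩
  have := I.map_ideal (U := E) (V := D) h2'
  rw [hID, ← I.map_ideal (U := E) (V := ⟨_, hT⟩) ((sq k C).basicOpen_le r₁), hbot, Ideal.map_bot, Ideal.map_span,
    Set.image_singleton, Ideal.span_singleton_eq_bot] at this
  exact huD (map_injective_of_isIntegral (sq k C) (homOfLE h2') (this.trans (map_zero _).symm))

end SymSqLib
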