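import Groth.Agent.HypSqLib.Main
import Groth.Agent.QuotLib.Sep
import Groth.Agent.AbSchLib.DimFinite
import Groth.Prelude.Def_SGA1

/-! The symmetric square of a curve as a quotient. -/

set_option autoImplicit false
set_option linter.style.haveILetI false
set_option linter.unusedSectionVars false

universe u

open CategoryTheory CategoryTheory.Limits AlgebraicGeometry TopologicalSpace
open HypSqLib (sq)

noncomputable section

namespace SymSqLib

attribute [local instance] HypSqLib.overSq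

variable {k : Type u} [Field k] [IsAlgClosed k] {C : Scheme.{u}} [C.Over (Spec (CommRingCat.of k))]
  [IsProper (C ↘ Spec (CommRingCat.of k))] [Smooth (C ↘ Spec (CommRingCat.of k))] [ConnectedSpace C]

/-- The swap. -/
abbrev sw : sq k C ⟶ sq k C :=
  (pullbackSymmetry (C ↘ Spec (CommRingCat.of k)) (C ↘ Spec (CommRingCat.of k))).hom

theorem sw_fst : (sw : sq k C ⟶ sq k C) ≫ pullback.fst _ _ = pullback.snd _ _ :=
  pullbackSymmetry_hom_comp_fst _ _

theorem sw_snd : (sw : sq k C ⟶ sq k C) ≫ pullback.snd _ _ = pullback.fst _ _ :=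
  pullbackSymmetry_hom_comp_snd _ _

theorem sw_sw : (sw : sq k C ⟶ sq k C) ≫ sw = 𝟙 _ := by
  apply pullback.hom_ext <;> simp [sw_fst, sw_snd]

theorem sw_apply_apply (x : sq k C) : sw (sw x) = x := by
  rw [← Scheme.Hom.comp_apply, sw_sw]; rfl

theorem diag_sw : pullback.diagonal (C ↘ Spec (CommRingCat.of k)) ≫ sw = pullback.diagonal _ := by
  apply pullback.hom_ext <;> simp [sw_fst, sw_snd]

theorem le_swPre {Sq : Scheme.{u}} {π : sq k C ⟶ Sq} (h : sw ≫ π = π) (U : Sq.Opens) :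
    π ⁻¹ᵁ U ≤ sw ⁻¹ᵁ (π ⁻¹ᵁ U) := by
  rw [← Scheme.Hom.comp_preimage, h]

/-- The action of the swap on sections over a saturated open. -/
abbrev swA {Sq : Scheme.{u}} {π : sq k C ⟶ Sq} (h : sw ≫ π = π) (U : Sq.Opens) :
    Γ(sq k C, π ⁻¹ᵁ U) →+* Γ(sq k C, π ⁻¹ᵁ U) :=
  (sw.appLE (π ⁻¹ᵁ U) (π ⁻¹ᵁ U) (le_swPre h U)).hom

/-- The properties of the symmetric square. -/
structure IsSym {Sq : Scheme.{u}} (π : sq k C ⟶ Sq) (q : Sq ⟶ Spec (CommRingCat.of k)) : Prop where
  inv : sw ≫ π = π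
  finite : IsFinite π
  surjective : Function.Surjective π
  inj : ∀ U, Function.Injective (π.app U).hom
  range : ∀ (U : Sq.Opens) (s : Γ(sq k C, π ⁻¹ᵁ U)), swA inv U s = s → ∃ b, (π.app U).hom b = s
  orbit : ∀ x x', π x = π x' → x' = x ∨ x' = sw x
  hover : π ≫ q = pullback.fst _ _ ≫ (C ↘ Spec (CommRingCat.of k))
  proper : IsProper q

theorem isSym_of {ρ : ULift.{u} (Equiv.Perm (Fin 2)) →* Aut (sq k C)}
    (hρ : (ρ (ULift.up (Equiv.swap 0 1))).hom = sw) {Sq : Scheme.{u}} {π : sq k C ⟶ Sq}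
    (hπ : SGA1.IsQuot ρ π) {q : Sq ⟶ Spec (CommRingCat.of k)}
    (hq : π ≫ q = pullback.fst _ _ ≫ (C ↘ Spec (CommRingCat.of k))) : IsSym π q := by
  haveI := HypSqLib.proper_sq (k := k) (C := C)
  have hinv : sw ≫ π = π := hρ ▸ hπ.inv _
  have hg : ∀ g : ULift.{u} (Equiv.Perm (Fin 2)), g = 1 ∨ g = ULift.up (Equiv.swap 0 1) := by
    rintro ⟨g⟩
    rcases (by decide : ∀ e : Equiv.Perm (Fin 2), e = 1 ∨ e = Equiv.swap 0 1) g with h | h <;> subst h
    · exact Or.inl rfl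
    · exact Or.inr rfl
  haveI : IsProper (π ≫ q) := hq ▸ inferInstanceAs (IsProper (sq k C ↘ Spec (CommRingCat.of k)))
  have hsurj := QuotLib.surjective hπ
  haveI : Surjective π := ⟨hsurj⟩
  haveI := QuotLib.isFinite_of_locallyOfFiniteType hπ q
  haveI := QuotLib.isSeparated_desc hπ q
  haveI := QuotLib.locallyOfFiniteType_desc hπ q
  haveI : UniversallyClosed q := UniversallyClosed.of_comp_surjective π q
  refine ⟨hinv, inferInstance, hsurj, hπ.injective, fun U s hs => ?_, fun x x' h => ?_, hq, { }⟩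
  · refine (hπ.range_iff U s).2 fun g => ?_
    rcases hg g with rfl | rfl
    · have e : (ρ 1).hom = 𝟙 _ := by rw [map_one]; rfl
      have : ∀ (f : sq k C ⟶ sq k C) (h : π ⁻¹ᵁ U ≤ f ⁻¹ᵁ (π ⁻¹ᵁ U)), f = 𝟙 _ →
          (f.appLE (π ⁻¹ᵁ U) (π ⁻¹ᵁ U) h).hom s = s := by
        rintro f h rfl
        simp only [Scheme.Hom.appLE, Scheme.Hom.id_app, Category.id_comp]
        exact ConcreteCategory.congr_hom ((sq k C).presheaf.map_id _) s
      exact this _ _ e
    · refine Eq.trans ?_ hs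
      simp only [hρ]
  · obtain ⟨g, rfl⟩ := (QuotLib.orbit_iff hπ x x').1 h
    rcases hg g with rfl | rfl
    · left; rw [map_one]; rfl
    · right; rw [hρ]

variable {Sq : Scheme.{u}} {π : sq k C ⟶ Sq} {q : Sq ⟶ Spec (CommRingCat.of k)} (hS : IsSym π q)

include hS

/-- Saturated neighbourhoods. -/
theorem exists_affine_saturated {G : (sq k C).Opens} (hG : ∀ x ∈ G, sw x ∈ G) {x : sq k C} (hx : x ∈ G)
    {U₀ : Sq.Opens} (hU₀ : π x ∈ U₀) :
    ∃ U : Sq.Opens, IsAffineOpen U ∧ π x ∈ U ∧ U ≤ U₀ ∧ π ⁻¹ᵁ U ≤ G := by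
  haveI := hS.finite
  let V : Sq.Opens := ⟨(π '' (↑G)ᶜ)ᶜ, (π.isClosedMap _ G.isOpen.isClosed_compl).isOpen_compl⟩
  have hxV : π x ∈ V := by
    rintro ⟨z, hz, hzx⟩
    rcases hS.orbit z x hzx with rfl | rfl
    · exact hz hx
    · exact hz (sw_apply_apply z ▸ hG _ hx)
  obtain ⟨U, hU, hxU, hUV⟩ := exists_isAffineOpen_mem_and_subset (U := U₀ ⊓ V) (x := π x) ⟨hU₀, hxV⟩
  exact ⟨U, hU, hxU, fun y hy => (hUV hy).1, fun z hz => by
    by_contra hzG; exact (hUV hz).2 ⟨z, hzG, rfl⟩⟩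

theorem dim_eq (hdim : topologicalKrullDim C = 1) : topologicalKrullDim Sq = ((2 : ℕ) : WithBot ℕ∞) := by
  haveI := hS.finite
  haveI : Surjective π := ⟨hS.surjective⟩
  rw [← AbSchLib.topologicalKrullDim_eq_of_finite_surjective π]
  exact (HypSqLib.integral_sq (k := k) hdim).2

theorem integral (hdim : topologicalKrullDim C = 1) : IsIntegral Sq := by
  haveI := (HypSqLib.integral_sq (k := k) hdim).1
  haveI : IsReduced Sq := ⟨fun U => isReduced_of_injective (π.app U).hom (hS.inj U)⟩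
  haveI : IrreducibleSpace Sq :=
    { toNonempty := ⟨π (Classical.arbitrary _)⟩
      toPreirreducibleSpace := Function.Surjective.preirreducibleSpace π.continuous hS.surjective }
  exact isIntegral_of_irreducibleSpace_of_isReduced Sq

end SymSqLib
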