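import Groth.Agent.SymSqLib.Descend
import Groth.Agent.HypSqLib.DiagIso

/-! The divisor `∇` and the classes pulling back to `F_m`. -/

set_option autoImplicit false
set_option linter.style.haveILetI false
set_option linter.unusedSectionVars false

universe u

open CategoryTheory CategoryTheory.Limits AlgebraicGeometry TopologicalSpace Opposite
open KFlatLib (pb)
open HypSqLib (sq)
open HilbPolyLib (congrLeft congrRight assocIso swapIso unitLeft)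

noncomputable section

namespace SymSqLib

attribute [local instance] HypSqLib.overSq

variable {k : Type u} [Field k] [IsAlgClosed k] {C : Scheme.{u}} [C.Over (Spec (CommRingCat.of k))]
  [IsProper (C ↘ Spec (CommRingCat.of k))] [Smooth (C ↘ Spec (CommRingCat.of k))] [ConnectedSpace C]

/-- Two inverses of the same module agree. -/
def inverseUnique {X : Scheme.{u}} {P Q R : X.Modules} (e : CohB1.tensorMod P Q ≅ Coh.structureModule X)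
    (e' : CohB1.tensorMod Q R ≅ Coh.structureModule X) : P ≅ R :=
  (swapIso _ _ ≪≫ unitLeft P).symm ≪≫ congrRight P e'.symm ≪≫ (assocIso P Q R).symm ≪≫ congrLeft e R ≪≫ unitLeft R

theorem isStable_ker {Sq : Scheme.{u}} {π : sq k C ⟶ Sq} {q : Sq ⟶ Spec (CommRingCat.of k)} (hS : IsSym π q)
    (ι : C ⟶ sq k C) [IsClosedImmersion ι] (τ : C ⟶ C) (hι : ι ≫ sw = τ ≫ ι) : IsStable hS ι.ker := by
  intro U hT c hc
  rw [Scheme.Hom.ker_apply, RingHom.mem_ker] at hc ⊢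
  have key : ∀ (f : C ⟶ sq k C) (h : ι ⁻¹ᵁ (π ⁻¹ᵁ U) ≤ f ⁻¹ᵁ (π ⁻¹ᵁ U)), f = ι ≫ sw →
      (f.appLE (π ⁻¹ᵁ U) (ι ⁻¹ᵁ (π ⁻¹ᵁ U)) h).hom c = (ι.app (π ⁻¹ᵁ U)).hom (swA hS.inv U c) := by
    rintro f h rfl
    show _ = (sw.appLE _ _ _ ≫ ι.app _).hom c
    rw [Scheme.Hom.app_eq_appLE, Scheme.Hom.appLE_comp_appLE]
  have hle : ι ⁻¹ᵁ (π ⁻¹ᵁ U) ≤ τ ⁻¹ᵁ (ι ⁻¹ᵁ (π ⁻¹ᵁ U)) := by
    intro z hz
    show (τ ≫ ι) z ∈ π ⁻¹ᵁ U
    rw [← hι]
    exact le_swPre hS.inv U hz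
  rw [← key (τ ≫ ι) hle hι.symm, ← Scheme.Hom.appLE_comp_appLE τ ι (π ⁻¹ᵁ U) (ι ⁻¹ᵁ (π ⁻¹ᵁ U)) _ le_rfl hle,
    ← Scheme.Hom.app_eq_appLE]
  show (τ.appLE _ _ _).hom ((ι.app _).hom c) = 0
  rw [hc, map_zero]

variable (hdim : topologicalKrullDim C = 1)
  {g : ℕ} (hg : 2 ≤ g) (hgen : Curv2.genus k C = g) (κ : C ⟶ CohB1.ProjSpace 1 k)
  (hκ : κ ≫ CohB1.ProjSpace.toSpec 1 k = C ↘ Spec (CommRingCat.of k)) [IsFinite κ] [Flat κ]
  (hκ2 : ∀ y : ↥(CohB1.ProjSpace 1 k), κ.finrank y = 2)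
  (σ : C ⟶ C) (hσp : σ ≫ (C ↘ Spec (CommRingCat.of k)) = C ↘ Spec (CommRingCat.of k))
  (hσ : σ ≫ κ = κ) (hσ1 : σ ≠ 𝟙 C)
  {Sq : Scheme.{u}} [Sq.Over (Spec (CommRingCat.of k))] {π : sq k C ⟶ Sq}
  (hS : IsSym π (Sq ↘ Spec (CommRingCat.of k))) (h2 : (2 : k) ≠ 0)

include hdim hg hgen hκ hκ2 hσp hσ hσ1 hS h2 in
/-- The divisor `∇`. -/
theorem exists_nabla : ∃ J : Sq.IdealSheafData, BlowUp.IsEffCartierIdeal J ∧
    PicF.IsInvertible (ClSub.idealMod J) ∧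
      Nonempty (pb π (ClSub.idealMod J) ≅ ClSub.idealMod (HypSqLib.gr σ hσp).ker) := by
  haveI := HypSqLib.integral k C
  haveI := HypSqLib.isClosedImmersion_gr σ hσp
  haveI := HypSqLib.proper_sq (k := k) (C := C)
  have h11 := HypSqLib.invol_sq hdim hg hgen κ hκ hκ2 h2 hσ hσ1
  have hι : HypSqLib.gr σ hσp ≫ sw = σ ≫ HypSqLib.gr σ hσp := by
    apply pullback.hom_ext
    · rw [Category.assoc, sw_fst, Category.assoc, HypSqLib.gr_snd, HypSqLib.gr_fst, Category.comp_id]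
    · rw [Category.assoc, sw_snd, Category.assoc, HypSqLib.gr_fst, HypSqLib.gr_snd, h11]
  refine exists_descend hS hdim h2 (HypSqLib.effCartier hdim σ hσp) (isStable_ker hS _ σ hι) ?_
  rw [← SetLike.mem_coe, Scheme.Hom.support_ker, (HypSqLib.gr σ hσp).isClosedEmbedding.isClosed_range.closure_eq]
  rintro ⟨c, hc⟩
  refine HypSqLib.generic_notMem (k := k) σ hσp hσ1 ⟨genericPoint C, ?_⟩
  have e : c = genericPoint C := by
    have h := congrArg (pullback.fst (C ↘ Spec (CommRingCat.of k)) (C ↘ Spec (CommRingCat.of k))) hc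
    rw [← Scheme.Hom.comp_apply, ← Scheme.Hom.comp_apply, HypSqLib.gr_fst, pullback.diagonal_fst] at h
    exact h
  exact hc.symm.trans (by rw [e])

include hdim hg hgen hκ hκ2 hσp hσ hσ1 hS h2 in
/-- Modules on the symmetric square pulling back to `F_1`. -/
theorem exists_B : ∃ B : Sq.Modules, PicF.IsInvertible B ∧ Nonempty (pb π B ≅ HypSqLib.B1 κ) := by
  obtain ⟨J, -, hJ, ⟨eJ⟩⟩ := exists_nabla hdim hg hgen κ hκ hκ2 σ hσp hσ hσ1 hS h2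
  obtain ⟨eE⟩ := pb_E hS h2 hdim
  have hIΔ := HypSqLib.ideal_inv (k := k) (𝟙 C) HypSqLib.id_over hdim
  have hIΓ := HypSqLib.ideal_inv σ hσp hdim
  obtain ⟨dΔ⟩ := MiscFlat6.nonempty_dualIso hIΔ
  obtain ⟨dΓ⟩ := MiscFlat6.nonempty_dualIso hIΓ
  obtain ⟨eB⟩ := HypSqLib.diag_add_graph hdim hg hgen κ hκ hκ2 σ hσp h2 hσ hσ1 (N := MiscFlat6.dual _)
    ⟨swapIso _ _ ≪≫ dΓ⟩ (ND := MiscFlat6.dual _) ⟨swapIso _ _ ≪≫ dΔ⟩
  have hK := HilbPolyLib.isInvertible_tensor (E_inv hS h2 hdim) hJ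
  obtain ⟨dK⟩ := MiscFlat6.nonempty_dualIso hK
  refine ⟨MiscFlat6.dual _, MiscFlat6.dual_isInvertible hK, ⟨inverseUnique
    (Q := CohB1.tensorMod (ClSub.idealMod (dg (k := k) (C := C)).ker) (ClSub.idealMod (HypSqLib.gr σ hσp).ker))
    ?_ ?_ ≪≫ eB⟩⟩
  · exact congrRight _ ((PicPnLib.pullTens π (E hS h2) (ClSub.idealMod J)) ≪≫ congrLeft eE _ ≪≫ congrRight _ eJ).symm ≪≫
      (PicPnLib.pullTens π _ _).symm ≪≫ (Scheme.Modules.pullback π).mapIso (swapIso _ _ ≪≫ dK) ≪≫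
      KFlatLib.pullUnitIso π
  · exact HypSqLib.middle _ _ _ _ ≪≫ congrLeft dΔ _ ≪≫ unitLeft _ ≪≫ dΓ

include hdim hg hgen hκ hκ2 hσp hσ hσ1 hS h2 in
/-- Modules on the symmetric square pulling back to `F_m`. -/
theorem exists_Fm (m : ℕ) : ∃ M : Sq.Modules, PicF.IsInvertible M ∧ Nonempty (pb π M ≅ HypSqLib.Fm κ m) := by
  obtain ⟨B, hB, ⟨eB⟩⟩ := exists_B hdim hg hgen κ hκ hκ2 σ hσp hσ hσ1 hS h2
  refine ⟨CohB1.tensorPow B m, AmpleThLib.tensorPow_isInvertible hB m, ?_⟩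
  induction m with
  | zero => exact ⟨KFlatLib.pullUnitIso π ≪≫ ((congrLeft (KFlatLib.pullUnitIso _) _ ≪≫
      congrRight _ (KFlatLib.pullUnitIso _)) ≪≫ unitLeft _).symm⟩
  | succ m ih =>
    obtain ⟨e⟩ := ih
    exact ⟨PicPnLib.pullTens π _ _ ≪≫ congrLeft e _ ≪≫ congrRight _ eB ≪≫ HypSqLib.middle _ _ _ _ ≪≫
      congrLeft (PicPnLib.pullTens _ _ _).symm _ ≪≫ congrRight _ (PicPnLib.pullTens _ _ _).symm⟩

end SymSqLib
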