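import Groth.Agent.SymSqLib.Apps
import Groth.Agent.FinCovLib.Cover
import Groth.Agent.RegFlatLib.Basic
import Groth.Agent.CurveH0Lib.Smooth
import Groth.Agent.SurfNumLib.RR
import Groth.Agent.SurfAmpleLib.Projective
import Groth.Agent.S9816
import Groth.Agent.S0052

/-! The symmetric square is a smooth projective surface. -/

set_option autoImplicit false
set_option linter.style.haveILetI false
set_option linter.unusedSectionVars false
set_option maxHeartbeats 1000000

universe u

open CategoryTheory CategoryTheory.Limits AlgebraicGeometry TopologicalSpace Opposite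
open KFlatLib (pb puSec)
open HypSqLib (sq)
open AmpleLib (GenOn res)

noncomputable section

namespace SymSqLib

attribute [local instance] HypSqLib.overSq

variable {k : Type u} [Field k] [IsAlgClosed k] {C : Scheme.{u}} [C.Over (Spec (CommRingCat.of k))]
  [IsProper (C ↘ Spec (CommRingCat.of k))] [Smooth (C ↘ Spec (CommRingCat.of k))] [ConnectedSpace C]
  {Sq : Scheme.{u}} [Sq.Over (Spec (CommRingCat.of k))] {π : sq k C ⟶ Sq}
  (hS : IsSym π (Sq ↘ Spec (CommRingCat.of k))) (h2 : (2 : k) ≠ 0) (hdim : topologicalKrullDim C = 1)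

attribute [local instance] FinCovLib.preAlg

include hS h2 hdim in
theorem flat_π : Flat π := by
  haveI := hS.finite
  refine (FinCovLib.isCover_of_bases π 2 fun y => ?_).1.2.1
  obtain ⟨U, hT, e, hyU, he, -, -⟩ := exists_genE hS h2 hdim y
  obtain ⟨V, hV, hyV, hVU⟩ := exists_isAffineOpen_mem_and_subset hyU
  have hVU : V ≤ U := hVU
  let e' : Γ(E hS h2, V) := res _ hVU e
  let a : Γ(sq k C, π ⁻¹ᵁ V) := sE hS h2 e'
  have htra : trFun hS h2 V a = 0 := by
    refine trFun_unique hS h2 ?_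
    rw [map_zero, zero_mul, (anti_iff hS h2 V a).1 ⟨_, rfl⟩, add_neg_cancel]
  have htrπ : ∀ p, trFun hS h2 V ((π.app V).hom p) = p := fun p =>
    trFun_unique hS h2 (by rw [swA_app hS, mul_two])
  let L : (Fin 2 → Γ(Sq, V)) →ₗ[Γ(Sq, V)] Γ(sq k C, π ⁻¹ᵁ V) := Fintype.linearCombination Γ(Sq, V) ![1, a]
  have hL : ∀ c, L c = (π.app V).hom (c 0) + (π.app V).hom (c 1) * a := fun c => by
    rw [Fintype.linearCombination_apply, Fin.sum_univ_two]
    show (π.app V).hom (c 0) * 1 + (π.app V).hom (c 1) * a = _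
    rw [mul_one]
  refine ⟨V, hV, hyV, ⟨Module.Basis.ofEquivFun (LinearEquiv.ofBijective L ⟨fun c c' h => ?_, fun t => ?_⟩).symm⟩⟩
  · rw [hL, hL] at h
    have h0 := congrArg (trFun hS h2 V) h
    rw [trFun_add, trFun_add, trFun_mul, trFun_mul, htra, htrπ, htrπ, mul_zero, mul_zero, add_zero, add_zero] at h0
    rw [h0, add_right_inj] at h
    have h1 : c 1 = c' 1 := (he V hVU).1 (QCohLib.app_injective_of_mono (ιE hS h2) V (by
      show sE hS h2 _ = sE hS h2 _
      rw [ιE_smul, ιE_smul]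
      exact h))
    funext i; fin_cases i <;> assumption
  · let p := trFun hS h2 V t
    have hanti : swA hS.inv V (t - (π.app V).hom p) = -(t - (π.app V).hom p) := by
      have := trFun_spec hS h2 V t
      rw [map_sub, swA_app hS]
      linear_combination -this
    obtain ⟨f, hf⟩ := (anti_iff hS h2 V _).2 hanti
    obtain ⟨c, hc⟩ := (he V hVU).2 f
    refine ⟨![p, c], ?_⟩
    rw [hL]
    show (π.app V).hom p + (π.app V).hom c * a = t
    rw [← ιE_smul, show c • e' = f from hc, hf]
    exact add_sub_cancel _ _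

include hS h2 hdim in
theorem smooth_q : Smooth (Sq ↘ Spec (CommRingCat.of k)) := by
  haveI := hS.proper
  haveI := flat_π hS h2 hdim
  haveI := HypSqLib.smooth_sq (k := k) (C := C)
  haveI := CurvLib.isNoetherian k (X := Sq)
  refine CurveH0Lib.smooth_of_regular k _ fun y => ?_
  obtain ⟨x, rfl⟩ := hS.surjective y
  letI := (π.stalkMap x).hom.toAlgebra
  haveI : IsLocalHom (algebraMap (Sq.presheaf.stalk (π x)) ((sq k C).presheaf.stalk x)) := inferInstanceAs (IsLocalHom (π.stalkMap x).hom)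
  haveI : Module.Flat (Sq.presheaf.stalk (π x)) ((sq k C).presheaf.stalk x) := Flat.stalkMap π x
  haveI : IsRegularLocalRing ((sq k C).presheaf.stalk x) :=
    WeilExtLib.isRegular_stalk_smooth (sq k C ↘ Spec (CommRingCat.of k)) x
  exact RegFlatLib.isRegularLocalRing_of_flat (Sq.presheaf.stalk (π x)) ((sq k C).presheaf.stalk x)

variable {g : ℕ} (hg : 2 ≤ g) (hgen : Curv2.genus k C = g) (κ : C ⟶ CohB1.ProjSpace 1 k)
  (hκ : κ ≫ CohB1.ProjSpace.toSpec 1 k = C ↘ Spec (CommRingCat.of k)) [IsFinite κ] [Flat κ]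
  (hκ2 : ∀ y : ↥(CohB1.ProjSpace 1 k), κ.finrank y = 2)

include hS hdim hκ hκ2 in
/-- A module pulling back to `F_1` is ample. -/
theorem isAmple_B {B : Sq.Modules} (hB : PicF.IsInvertible B) (e : pb π B ≅ HypSqLib.Fm κ 1) : CohB1.IsAmple B := by
  haveI := hS.proper
  haveI := hS.finite
  haveI : Surjective π := ⟨hS.surjective⟩
  haveI := HypSqLib.proper_sq (k := k) (C := C)
  haveI := HypSqLib.integral k C
  have hL : CohB1.IsAmple (CohB1.tensorPow (HypSqLib.Lκ κ) 1) :=
    AmpleDevLib.isAmple_of_iso (HypSqLib.pencil (k := k) hdim κ hκ hκ2).1 (HypSqLib.pow_inv (k := k) hdim κ hκ hκ2 1)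
      (HilbPolyLib.unitLeft _).symm
      (AmpleDevLib.isAmple_pb (f := κ) (FormalCohLib.isAmple_twistProjSpace 1 k).1
        (FormalCohLib.isAmple_twistProjSpace 1 k))
  refine (Groth.Agent.S0052.result k (Sq ↘ Spec (CommRingCat.of k)) (sq k C ↘ Spec (CommRingCat.of k)) π hS.hover B hB).2 ?_
  have h := Groth.Agent.S9816.result (C ↘ Spec (CommRingCat.of k)) (C ↘ Spec (CommRingCat.of k)) _ _ hL hL
  exact AmpleDevLib.isAmple_of_iso h.1 (AmpleDevLib.isInvertible_pb π hB) e.symm h

end SymSqLib
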