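import Groth.Agent.SymSqLib.Anti
import Groth.Agent.ProjFormLib.Proj
import Groth.Agent.PushLinLib.HH
import Groth.Agent.AVThetaLib.DescLineGlobal

/-! The direct image of the structure sheaf to the symmetric square splits. -/

set_option autoImplicit false
set_option linter.style.haveILetI false
set_option linter.unusedSectionVars false

universe u

open CategoryTheory CategoryTheory.Limits AlgebraicGeometry TopologicalSpace Opposite
open KFlatLib (pb puSec)
open HypSqLib (sq)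
open HilbPolyLib (congrLeft congrRight assocIso swapIso unitLeft)
open AmpleLib (GenOn GenAt res)

noncomputable section

namespace SymSqLib

attribute [local instance] HypSqLib.overSq

variable {k : Type u} [Field k] [IsAlgClosed k] {C : Scheme.{u}} [C.Over (Spec (CommRingCat.of k))]
  [IsProper (C ↘ Spec (CommRingCat.of k))] [Smooth (C ↘ Spec (CommRingCat.of k))] [ConnectedSpace C]
  {Sq : Scheme.{u}} [Sq.Over (Spec (CommRingCat.of k))] {π : sq k C ⟶ Sq}
  (hS : IsSym π (Sq ↘ Spec (CommRingCat.of k))) (h2 : (2 : k) ≠ 0) (hdim : topologicalKrullDim C = 1)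

/-- The direct image of the structure sheaf. -/
abbrev pO (π : sq k C ⟶ Sq) : Sq.Modules := (Coh.push π).obj (Coh.structureModule (sq k C))

include hS h2 in
theorem exists_tr (U : Sq.Opens) (s : Γ(sq k C, π ⁻¹ᵁ U)) :
    ∃ b : Γ(Sq, U), (π.app U).hom b * 2 = s + swA hS.inv U s := by
  obtain ⟨c, hc⟩ := hS.range U (s + swA hS.inv U s) (by rw [map_add, swA_swA hS, add_comm])
  obtain ⟨v, hv⟩ := isUnit_two h2 (Sq ↘ Spec (CommRingCat.of k)) U
  refine ⟨c * ↑v⁻¹, ?_⟩
  rw [← map_ofNat (π.app U).hom 2, ← map_mul, mul_assoc, ← hv, Units.inv_mul, mul_one, hc]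

/-- The average. -/
def trFun (U : Sq.Opens) (s : Γ(sq k C, π ⁻¹ᵁ U)) : Γ(Sq, U) := (exists_tr hS h2 U s).choose

theorem trFun_spec (U : Sq.Opens) (s : Γ(sq k C, π ⁻¹ᵁ U)) :
    (π.app U).hom (trFun hS h2 U s) * 2 = s + swA hS.inv U s := (exists_tr hS h2 U s).choose_spec

theorem trFun_unique {U : Sq.Opens} {s : Γ(sq k C, π ⁻¹ᵁ U)} {b : Γ(Sq, U)}
    (h : (π.app U).hom b * 2 = s + swA hS.inv U s) : trFun hS h2 U s = b :=
  hS.inj U ((isUnit_two h2 (sq k C ↘ Spec (CommRingCat.of k)) _).mul_left_inj.1 ((trFun_spec hS h2 U s).trans h.symm))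

theorem trFun_add (U : Sq.Opens) (s t : Γ(sq k C, π ⁻¹ᵁ U)) :
    trFun hS h2 U (s + t) = trFun hS h2 U s + trFun hS h2 U t :=
  trFun_unique hS h2 (by rw [map_add, map_add, add_mul, trFun_spec hS h2, trFun_spec hS h2]; ring)

theorem trFun_mul (U : Sq.Opens) (r : Γ(Sq, U)) (s : Γ(sq k C, π ⁻¹ᵁ U)) :
    trFun hS h2 U ((π.app U).hom r * s) = r * trFun hS h2 U s := by
  refine trFun_unique hS h2 ?_
  rw [map_mul, map_mul, swA_app hS, mul_assoc, trFun_spec hS h2, mul_add]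

theorem trFun_res {U V : Sq.Opens} (h : V ≤ U) (s : Γ(sq k C, π ⁻¹ᵁ U)) :
    trFun hS h2 V (((sq k C).presheaf.map (homOfLE (fun x hx => h hx : π ⁻¹ᵁ V ≤ π ⁻¹ᵁ U)).op).hom s) =
      (Sq.presheaf.map (homOfLE h).op).hom (trFun hS h2 U s) := by
  refine trFun_unique hS h2 ?_
  have e : (π.app V).hom ((Sq.presheaf.map (homOfLE h).op).hom (trFun hS h2 U s)) =
      ((sq k C).presheaf.map (homOfLE (fun x hx => h hx : π ⁻¹ᵁ V ≤ π ⁻¹ᵁ U)).op).hom
        ((π.app U).hom (trFun hS h2 U s)) := congr($(π.naturality (homOfLE h).op) _)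
  rw [e, ← map_ofNat ((sq k C).presheaf.map (homOfLE (show π ⁻¹ᵁ V ≤ π ⁻¹ᵁ U from fun x hx => h hx)).op).hom 2,
    ← map_mul, trFun_spec hS h2, map_add, swA_res hS h]

/-- The averaging morphism. -/
def tr : pO π ⟶ Coh.structureModule Sq :=
  ⟨PresheafOfModules.homMk (M₁ := (pO π).val) (M₂ := (Coh.structureModule Sq).val)
    { app := fun U => AddCommGrpCat.ofHom
        (AddMonoidHom.mk' (fun s : Γ(sq k C, π ⁻¹ᵁ U.unop) => trFun hS h2 U.unop s) (trFun_add hS h2 U.unop))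
      naturality := fun U V i => by
        ext s
        exact trFun_res hS h2 i.unop.le s }
    fun U r (s : Γ(sq k C, π ⁻¹ᵁ U.unop)) => trFun_mul hS h2 U.unop r s⟩

theorem tr_app (U : Sq.Opens) (s : Γ(sq k C, π ⁻¹ᵁ U)) :
    (show Γ(Sq, U) from (tr hS h2).app U s) = trFun hS h2 U s := rfl

theorem unit_tr : ClSub.unitToPush π ≫ tr hS h2 = 𝟙 _ :=
  Scheme.Modules.hom_ext _ _ fun U => ConcreteCategory.hom_ext _ _ fun b => trFun_unique hS h2
    (show (π.app U).hom b * 2 = (π.app U).hom b + swA hS.inv U ((π.app U).hom b) by rw [swA_app hS, mul_two])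

/-- The anti-invariant part. -/
def E : Sq.Modules := kernel (tr hS h2)

/-- Its inclusion. -/
def ιE : E hS h2 ⟶ pO π := kernel.ι _

instance : Mono (ιE hS h2) := inferInstanceAs (Mono (kernel.ι _))

/-- A section of the anti-invariant part as a function. -/
def sE {U : Sq.Opens} (e : Γ(E hS h2, U)) : Γ(sq k C, π ⁻¹ᵁ U) := (ιE hS h2).app U e

/-- The splitting sequence. -/
def trSeq : ShortComplex Sq.Modules := ShortComplex.mk (ιE hS h2) (tr hS h2) (kernel.condition _)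

theorem trSeq_shortExact : (trSeq hS h2).ShortExact :=
  { exact := ShortComplex.exact_of_f_is_kernel _ (kernelIsKernel _)
    mono_f := inferInstanceAs (Mono (kernel.ι _))
    epi_g := (SplitEpi.mk (ClSub.unitToPush π) (unit_tr hS h2)).epi }

theorem anti_iff (U : Sq.Opens) (s : Γ(sq k C, π ⁻¹ᵁ U)) :
    (∃ e : Γ(E hS h2, U), sE hS h2 e = s) ↔ swA hS.inv U s = -s := by
  constructor
  · rintro ⟨e, rfl⟩
    have h := ConcreteCategory.congr_hom (congrArg (fun φ : E hS h2 ⟶ Coh.structureModule Sq => φ.app U)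
      (kernel.condition (tr hS h2))) e
    have h' : trFun hS h2 U (sE hS h2 e) = 0 := h
    have := trFun_spec hS h2 U (sE hS h2 e)
    rw [h', map_zero, zero_mul] at this
    exact eq_neg_of_add_eq_zero_right this.symm
  · intro hs
    refine QCohLib.exists_of_app_eq_zero (S := trSeq hS h2) (trSeq_shortExact hS h2).exact
      (trSeq_shortExact hS h2).mono_f (show Γ(pO π, U) from s) ?_
    exact trFun_unique hS h2 (b := 0) (by rw [map_zero, zero_mul, hs, add_neg_cancel])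

theorem ιE_smul (U : Sq.Opens) (r : Γ(Sq, U)) (e : Γ(E hS h2, U)) :
    sE hS h2 (r • e) = (π.app U).hom r * sE hS h2 e :=
  QCohLib.app_smul (ιE hS h2) U r e

theorem ιE_res {U V : Sq.Opens} (h : V ≤ U) (e : Γ(E hS h2, U)) :
    sE hS h2 (res _ h e) =
      ((sq k C).presheaf.map (homOfLE (fun x hx => h hx : π ⁻¹ᵁ V ≤ π ⁻¹ᵁ U)).op).hom (sE hS h2 e) :=
  QCohLib.app_map (ιE hS h2) (homOfLE h) e

include hdim in
theorem exists_genE (y : Sq) : ∃ (U : Sq.Opens) (hT : IsAffineOpen (π ⁻¹ᵁ U)) (e : Γ(E hS h2, U)),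
    y ∈ U ∧ GenOn (E hS h2) e ∧
      (dg (k := k) (C := C)).ker.ideal ⟨π ⁻¹ᵁ U, hT⟩ =
        Ideal.span {(sE hS h2 e)} ∧
      (sE hS h2 e) ≠ 0 := by
  haveI := (HypSqLib.integral_sq (k := k) hdim).1
  haveI := hS.finite
  obtain ⟨U, hU, hT, a, hyU, -, ha, hI, ha0⟩ := exists_gen hS hdim h2 y (U₀' := ⊤) trivial
  obtain ⟨e, he⟩ := (anti_iff hS h2 U a).2 ha
  refine ⟨U, hT, e, hyU, TwistLib.genOn_of_genAt fun z hz => ?_, by rw [he]; exact hI, by rw [he]; exact ha0⟩
  have hne : ∀ {W : Sq.Opens}, z ∈ W → Nonempty (π ⁻¹ᵁ W) := fun {W} hW => by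
    obtain ⟨x, rfl⟩ := hS.surjective z
    exact ⟨⟨x, hW⟩⟩
  have hres : ∀ {W : Sq.Opens} (hW : W ≤ U), z ∈ W →
      sE hS h2 (res _ hW e) ≠ 0 := fun {W} hW hzW h0 => by
    haveI := hne hz
    haveI := hne hzW
    rw [ιE_res, he] at h0
    exact ha0 (map_injective_of_isIntegral (sq k C) (homOfLE (fun x hx => hW hx : π ⁻¹ᵁ W ≤ π ⁻¹ᵁ U))
      (h0.trans (map_zero _).symm))
  refine ⟨fun c c' h => ?_, fun b => ?_⟩
  · obtain ⟨W₁, h₁, r, rfl⟩ := TopCat.Presheaf.exists_germ_eq Sq.presheaf (x := z) c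
    obtain ⟨W₂, h₂', r', rfl⟩ := TopCat.Presheaf.exists_germ_eq Sq.presheaf (x := z) c'
    let W := W₁ ⊓ W₂ ⊓ U
    have hzW : z ∈ W := ⟨⟨h₁, h₂'⟩, hz⟩
    let r₁ := (Sq.presheaf.map (homOfLE (inf_le_left.trans inf_le_left : W ≤ W₁)).op).hom r
    let r₂ := (Sq.presheaf.map (homOfLE (inf_le_left.trans inf_le_right : W ≤ W₂)).op).hom r'
    have e₁ : Sq.presheaf.germ W z hzW r₁ = Sq.presheaf.germ W₁ z h₁ r := TopCat.Presheaf.germ_res_apply _ _ _ _ _
    have e₂ : Sq.presheaf.germ W z hzW r₂ = Sq.presheaf.germ W₂ z h₂' r' := TopCat.Presheaf.germ_res_apply _ _ _ _ _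
    dsimp only at h
    rw [← e₁, ← e₂, ← AmpleLib.germ_res (E hS h2) (inf_le_right : W ≤ U) e (x := z) hzW,
      ← AmpleLib.germ_smul, ← AmpleLib.germ_smul] at h
    obtain ⟨O, hzO, i₁, i₂, hO⟩ := TopCat.Presheaf.germ_eq (E hS h2).presheaf z hzW hzW _ _ h
    change res (E hS h2) i₁.le _ = res (E hS h2) i₂.le _ at hO
    rw [AmpleLib.res_smul, AmpleLib.res_smul, AmpleLib.res_res] at hO
    have h' := congrArg (fun t => sE hS h2 t) hO
    simp only [ιE_smul] at h'
    haveI := hne hzO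
    have := hS.inj O (mul_right_cancel₀ (hres (i₁.le.trans inf_le_right) hzO) h')
    have := congrArg (Sq.presheaf.germ O z hzO).hom this
    rw [← e₁, ← e₂]
    exact (TopCat.Presheaf.germ_res_apply _ i₁ z hzO r₁).symm.trans
      (this.trans (TopCat.Presheaf.germ_res_apply _ i₂ z hzO r₂))
  · obtain ⟨W₀, hW₀, t, rfl⟩ := (E hS h2).presheaf.exists_germ_eq (x := z) b
    obtain ⟨W, hWa, hzW, hWle⟩ := exists_isAffineOpen_mem_and_subset (U := W₀ ⊓ U) (x := z) ⟨hW₀, hz⟩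
    have hW : W ≤ U := fun x hx => (hWle hx).2
    have hW' : W ≤ W₀ := fun x hx => (hWle hx).1
    have hTW : IsAffineOpen (π ⁻¹ᵁ W) := hWa.preimage π
    let s : Γ(sq k C, π ⁻¹ᵁ W) := sE hS h2 (res _ hW' t)
    have hs : swA hS.inv W s = -s := (anti_iff hS h2 W s).1 ⟨_, rfl⟩
    have hsI : s ∈ (dg (k := k) (C := C)).ker.ideal ⟨π ⁻¹ᵁ W, hTW⟩ := by
      rw [Scheme.Hom.ker_apply, RingHom.mem_ker]
      exact dg_anti hS h2 W hs
    rw [← (dg (k := k) (C := C)).ker.map_ideal (U := ⟨_, hTW⟩) (V := ⟨_, hT⟩)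
      (fun x hx => hW hx), hI, Ideal.map_span, Set.image_singleton, ← he] at hsI
    obtain ⟨c, hc⟩ := Ideal.mem_span_singleton'.1 hsI
    have hc : c * sE hS h2 (res _ hW e) = s := by rw [ιE_res hS h2 hW e]; exact hc
    haveI := hne hzW
    have ha' := (anti_iff hS h2 W (sE hS h2 (res _ hW e))).1 ⟨_, rfl⟩
    have hcinv : swA hS.inv W c = c := by
      refine mul_right_cancel₀ (hres hW hzW) (neg_injective ?_)
      rw [← mul_neg, ← ha', ← map_mul, hc, hs]
    obtain ⟨b, hb⟩ := hS.range W c hcinv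
    refine ⟨Sq.presheaf.germ W z hzW b, ?_⟩
    show Sq.presheaf.germ W z hzW b • _ = _
    rw [← AmpleLib.germ_res (E hS h2) hW e (x := z) hzW, ← AmpleLib.germ_smul,
      ← AmpleLib.germ_res (E hS h2) hW' t (x := z) hzW]
    congr 1
    apply QCohLib.app_injective_of_mono (ιE hS h2) W
    show sE hS h2 _ = s
    rw [ιE_smul, hb]
    exact hc

include hdim in
theorem E_inv : PicF.IsInvertible (E hS h2) := by
  choose U hT e hy he _ _ using fun y => exists_genE hS h2 hdim y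
  exact TwistLib.isInvertible_of_genOn U (fun y => ⟨y, hy y⟩) e he

include hdim in
theorem pb_E : Nonempty (pb π (E hS h2) ≅ ClSub.idealMod (dg (k := k) (C := C)).ker) := by
  choose U hT e hy he hI _ using fun y => exists_genE hS h2 hdim y
  let J := (dg (k := k) (C := C)).ker
  let θ := ((Scheme.Modules.pullbackPushforwardAdjunction π).homEquiv _ _).symm (ιE hS h2)
  have hθ : ∀ y, θ.app (π ⁻¹ᵁ U y) (puSec π (e y)) = sE hS h2 (e y) := fun y =>
    AVThetaLib.puSec_adjunct π (ιE hS h2) (e y)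
  have hgen : ∀ y, GenOn (pb π (E hS h2)) (puSec π (e y)) := fun y => AmpleDevLib.puSec_genOn π (he y)
  have h0 : θ ≫ ClSub.toSubscheme J = 0 := by
    refine AmpleThLib.hom_ext_gens (fun y => π ⁻¹ᵁ U y) (fun y => puSec π (e y)) (fun x => ⟨π x, hy (π x)⟩) hgen
      fun y => ?_
    show (ClSub.toSubscheme J).app (π ⁻¹ᵁ U y) (θ.app (π ⁻¹ᵁ U y) (puSec π (e y))) = 0
    rw [hθ]
    exact (IntMultLib.toSubscheme_app_eq_zero_iff J ⟨_, hT y⟩ _).2 (hI y ▸ Ideal.mem_span_singleton_self _)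
  let v : pb π (E hS h2) ⟶ ClSub.idealMod J := kernel.lift _ θ h0
  have hJ := IntMultLib.isInvertible_idealMod J (HypSqLib.effCartier hdim (𝟙 C) (HypSqLib.id_over (k := k)))
  haveI : IsIso v := by
    refine TwistLib.isIso_of_gen v fun x => ?_
    have hxU : x ∈ π ⁻¹ᵁ U (π x) := hy (π x)
    refine ⟨_, hxU, puSec π (e (π x)), (hgen (π x)).genAt hxU, ?_⟩
    obtain ⟨W, g, hxW, hg⟩ := TwistLib.exists_genOn hJ x
    obtain ⟨W', hW'a, hxW', hW'le⟩ := exists_isAffineOpen_mem_and_subset (U := W ⊓ π ⁻¹ᵁ U (π x)) (x := x) ⟨hxW, hxU⟩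
    let σ := v.app _ (puSec π (e (π x)))
    have hWU : W' ≤ π ⁻¹ᵁ U (π x) := fun z hz => (hW'le hz).2
    have hWW : W' ≤ W := fun z hz => (hW'le hz).1
    refine (AmpleLib.genAt_res hWU σ hxW').1 ?_
    obtain ⟨c, hc⟩ := (hg W' hWW).2 (res _ hWU σ)
    dsimp only at hc
    rw [← hc, AmpleLib.genAt_smul_iff _ _ hxW' ((hg.res hWW).genAt hxW')]
    have hι : ∀ (V : (sq k C).Opens) (t : Γ(pb π (E hS h2), V)), (ClSub.idealModι J).app V (v.app V t) = θ.app V t :=
      fun V t => ConcreteCategory.congr_hom (congrArg (fun φ : pb π (E hS h2) ⟶ _ => φ.app V) (kernel.lift_ι _ θ h0)) t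
    let a' : Γ(sq k C, W') := ((sq k C).presheaf.map (homOfLE hWU).op).hom (sE hS h2 (e (π x)))
    have ea : (show Γ(sq k C, W') from (ClSub.idealModι J).app W' (res _ hWU σ)) = a' := by
      refine (QCohLib.app_map (ClSub.idealModι J) (homOfLE hWU) σ).trans ?_
      exact congrArg _ ((hι _ _).trans (hθ _))
    let g' : Γ(sq k C, W') := (ClSub.idealModι J).app W' (res _ hWW g)
    have hg' : g' ∈ J.ideal ⟨W', hW'a⟩ := (IntMultLib.toSubscheme_app_eq_zero_iff J ⟨W', hW'a⟩ _).1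
      (ConcreteCategory.congr_hom (congrArg (fun φ : ClSub.idealMod J ⟶ ClSub.quotMod J => φ.app W')
        (kernel.condition (ClSub.toSubscheme J))) _)
    rw [← J.map_ideal (U := ⟨W', hW'a⟩) (V := ⟨_, hT (π x)⟩) hWU, hI, Ideal.map_span, Set.image_singleton] at hg'
    obtain ⟨d, hd⟩ := Ideal.mem_span_singleton'.1 hg'
    rw [← hc, IntMultLib.idealModι_smul] at ea
    have hc1 : IsUnit c := by
      haveI := (HypSqLib.integral_sq (k := k) hdim).1
      haveI : Nonempty W' := ⟨⟨x, hxW'⟩⟩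
      have h1 : c * d * a' = 1 * a' := by rw [mul_assoc, one_mul]; exact (congrArg (c * ·) hd).trans ea
      have ha' : a' ≠ 0 := by
        intro h
        have hg0 : g' = 0 := by refine hd.symm.trans ?_; show d * a' = 0; rw [h, mul_zero]
        haveI : Mono (ClSub.idealModι J) := inferInstanceAs (Mono (kernel.ι _))
        have : res (ClSub.idealMod J) hWW g = 0 := QCohLib.app_injective_of_mono (ClSub.idealModι J) W'
          ((show (ClSub.idealModι J).app W' (res _ hWW g) = 0 from hg0).trans (map_zero _).symm)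
        have h10 : (1 : Γ(sq k C, W')) = 0 := ((hg.res hWW) W' le_rfl).1 (by simp [this, AmpleLib.res_refl])
        exact one_ne_zero h10
      exact IsUnit.of_mul_eq_one d (mul_right_cancel₀ ha' h1)
    exact Scheme.mem_basicOpen _ _ _ hxW' |>.2 (hc1.map _)
  exact ⟨asIso v⟩

end SymSqLib
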